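import Cfsg.Agent.Lib.ChevCent.EllipticTorus

/-!
The centraliser of every element of a primitive prime order is a torus of order `Φ_d(q)`.
-/

set_option autoImplicit false
set_option linter.unusedSectionVars false

namespace CfsgLib.G2Orders

open Cfsg.Lie CfsgLib.Chev CfsgLib.ChevField CfsgLib.ChevCent Polynomial
open scoped Matrix

variable {D : ChevalleyDatum} {T : Tabs} {F E : Type*} [Field F] [Field E]

section
variable (hc : Checked D T) (hcomm : CommOne D T)
include hc hcomm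

/-- an element commuting with an element of primitive prime order has order dividing `Φ_d(q)` -/
theorem elliptic_centralizer [Fintype F] {q : ℕ} (hq : Fintype.card F = q) {d : ℕ} (hd : 0 < d)
    (hrank : 2 ≤ D.rank) (hdeg : Nat.totient d = D.rank) {M : Fin D.rank → Fin D.rank → ℤ} (hM : CartanInv D M)
    {J : List (Fin D.rank)} (hJ : ∀ i, i ∈ J) {Φq : ℕ} (hΦ : (cyclotomic d ℤ).eval (q : ℤ) = Φq)
    (hsq : ∀ l : ℕ, l.Prime → l ∣ d → ¬ l ^ 2 ∣ Φq) {r : ℕ} [Fact r.Prime] (hr2 : r ≠ 2) (hrΦ : r ∣ Φq)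
    (hrd : ¬ r ∣ d) (hrW : ¬ r ∣ wsum hc J 1) (y₀ : ↥(D.group F))
    (hy₀ : orderOf y₀ = r) {z : ↥(D.group F)} (hz : y₀ * z = z * y₀) :
    orderOf z ∣ Φq := by
  classical
  have hr := (Fact.out : r.Prime)
  have : NeZero (d : ZMod r) := ⟨fun h => hrd ((ZMod.natCast_eq_zero_iff _ r).1 h)⟩
  have hroot : IsRoot (cyclotomic d (ZMod r)) (q : ZMod r) := by
    rw [← map_cyclotomic d (Int.castRingHom (ZMod r)), IsRoot,
      show (q : ZMod r) = (Int.castRingHom (ZMod r)) (q : ℤ) by simp, Polynomial.eval_map, Polynomial.eval₂_at_apply, hΦ]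
    simp [(ZMod.natCast_eq_zero_iff _ r).2 hrΦ]
  have hord : orderOf (q : ZMod r) = d := (isRoot_cyclotomic_iff.1 hroot).eq_orderOf.symm
  have hq1 : 1 < q := hq ▸ Fintype.one_lt_card
  have hrq : ¬ r ∣ q := fun h => by
    have h1 := pow_orderOf_eq_one (q : ZMod r)
    rw [hord, (ZMod.natCast_eq_zero_iff _ r).2 h, zero_pow hd.ne'] at h1
    exact zero_ne_one h1
  obtain ⟨E, iE, iF, ι, σ, hfix, hσ, hE⟩ := exists_extension F hd
  rw [hq] at hσ hE
  have hΦdvd : Φq ∣ q ^ d - 1 := by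
    have h1 := eval_dvd (x := (q : ℤ)) (cyclotomic.dvd_X_pow_sub_one d ℤ)
    simp only [eval_sub, eval_pow, eval_X, eval_one, hΦ] at h1
    rw [show (q : ℤ) ^ d - 1 = ((q ^ d - 1 : ℕ) : ℤ) by
      rw [Nat.cast_sub (Nat.one_le_pow _ _ (by omega))]; push_cast; ring] at h1
    exact_mod_cast h1
  have hQ0 : q ^ d - 1 ≠ 0 := by have := Nat.one_lt_pow hd.ne' hq1; omega
  set k := (q ^ d - 1).factorization r
  have hk : 1 ≤ k := hr.factorization_pos_of_dvd hQ0 (hrΦ.trans hΦdvd)
  have he : ¬ r ∣ (q ^ d - 1) / r ^ k := Nat.not_dvd_ordCompl hr hQ0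
  have hke : Fintype.card E - 1 = r ^ k * ((q ^ d - 1) / r ^ k) := by
    rw [hE, Nat.mul_div_cancel' (Nat.ordProj_dvd _ _)]
  have hdd : ¬ r ∣ 1 := hr.not_dvd_one
  have hN : ∀ i j, ∑ k, M i k * cm D k j = if i = j then ((1 : ℕ) : ℤ) else 0 := fun i j => by
    rw [hM i j, Nat.cast_one]
  have hy₀r : y₀ ^ r = 1 := by rw [← hy₀, pow_orderOf_eq_one]
  obtain ⟨g, hg, x, hxr, hxd, hgx⟩ := exists_torus_conj hc hcomm ι hke he hk
    (by rw [hE]; exact fun h => hrq (hr.dvd_of_dvd_pow h)) hN hdd hJ hrW y₀.2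
    (by rw [← SubmonoidClass.coe_pow, hy₀r, OneMemClass.coe_one])
  have hσι : ∀ b : GL D.Idx F, glMap D σ (glMap D ι b) = glMap D ι b := fun b => by
    ext i j; exact (hfix _).2 ⟨_, rfl⟩
  have hσt : ∀ y : Fin D.rank → Eˣ, glMap D σ (torus D T E y) = torus D T E (y ^ q) := fun y => by
    rw [glMap_torus]
    congr 1
    funext j
    exact Units.ext (hσ _)
  set c := glMap D σ g * g⁻¹ with hc_def
  have hcG : c ∈ D.group E := mul_mem (glMap_group hc σ hg) (inv_mem hg)
  have hσfix : ∀ χ : Fin D.rank → Eˣ, glMap D σ (g⁻¹ * torus D T E χ * g) = g⁻¹ * torus D T E χ * g ↔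
      c * torus D T E χ * c⁻¹ = torus D T E (χ ^ q) := by
    intro χ
    rw [map_mul, map_mul, map_inv, hσt, hc_def]
    constructor
    · intro h
      calc glMap D σ g * g⁻¹ * torus D T E χ * (glMap D σ g * g⁻¹)⁻¹
          = glMap D σ g * (g⁻¹ * torus D T E χ * g) * (glMap D σ g)⁻¹ := by group
        _ = _ := by rw [← h]; group
    · intro h
      rw [← h]; group
  have hcx : c * torus D T E x * c⁻¹ = torus D T E (x ^ q) := (hσfix x).1 (by rw [← hgx]; exact hσι _)
  have hx1 : x ≠ 1 := by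
    intro h
    rw [h, map_one, mul_one, inv_mul_cancel] at hgx
    have h1 : (y₀ : GL D.Idx F) = 1 := glMap_injective ι (hgx.trans (map_one _).symm)
    rw [show y₀ = 1 from Subtype.ext h1, orderOf_one] at hy₀
    exact hr.ne_one hy₀.symm
  obtain ⟨L, hLA, -⟩ := twist_weyl hc hcomm (q := q) (m := r) (hr.coprime_iff_not_dvd.2 hrq).symm {x}
    (by rintro _ rfl; exact hxd) (by rintro _ rfl; exact hxr) hcG (by rintro _ rfl; exact hcx)
  set π₀ := permOf hc L.reverse
  have hπ₀ : π₀ ∈ weylGrp hc := ⟨_, rfl⟩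
  have hact : ∀ χ : Fin D.rank → Eˣ, permAct hc π₀ χ = reflChars L χ := fun χ => by
    rw [permAct_permOf, List.reverse_reverse]
  set A := permMat hc π₀
  have hW' : ¬ r ∣ Nat.card ↥(weylGrp hc) := by rw [card_weylGrp hc hJ]; exact hrW
  have hAx : ∀ v, chi x (A *ᵥ v) = chi x v ^ q := fun v => by
    rw [chi_permMat, hact, hLA x rfl, chi_pow']
  have hev : ∀ p : ℤ[X], aeval A p = 0 → ((p.eval (q : ℤ) : ℤ) : ZMod r) = 0 := by
    intro p hp
    have hgen : ∀ (p : ℤ[X]) v, chi x (aeval A p *ᵥ v) = chi x v ^ (p.eval (q : ℤ)) := by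
      intro p
      induction p using Polynomial.induction_on' with
      | add a b ha hb => intro v; rw [map_add, Matrix.add_mulVec, chi_add, ha, hb, eval_add, zpow_add]
      | monomial i a =>
        have hi : ∀ i v, chi x (A ^ i *ᵥ v) = chi x v ^ q ^ i := by
          intro i
          induction i with
          | zero => intro v; simp
          | succ i ih => intro v; rw [pow_succ, ← Matrix.mulVec_mulVec, ih, hAx, ← pow_mul, ← pow_succ']
        intro v
        rw [aeval_monomial, Algebra.algebraMap_eq_smul_one, smul_mul_assoc, one_mul, Matrix.smul_mulVec, chi_smul,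
          hi, eval_monomial, ← zpow_natCast, ← zpow_mul]
        congr 1
        push_cast; ring
    obtain ⟨j, hj⟩ : ∃ j, x j ≠ 1 := by
      by_contra hh; push Not at hh; exact hx1 (funext hh)
    have h1 := hgen p (Pi.single j 1)
    rw [hp, Matrix.zero_mulVec, chi_zero, chi_single, zpow_one] at h1
    rw [ZMod.intCast_zmod_eq_zero_iff_dvd]
    have h2 : orderOf (x j) = r := orderOf_eq_prime (congrFun hxr j) hj
    rw [← h2]
    exact orderOf_dvd_iff_zpow_eq_one.2 h1.symm
  have hcp : A.charpoly = cyclotomic d ℤ := by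
    refine charpoly_eq_cyclotomic (N := orderOf π₀) (r := r) (q := (q : ℤ)) ?_ ?_ ?_ ?_ hev
    · rw [← permMat_pow hc hπ₀, pow_orderOf_eq_one, permMat_one]
    · intro h
      refine hW' (h.trans ?_)
      rw [← Nat.card_zpowers]
      exact Subgroup.card_dvd_of_le (Subgroup.zpowers_le.2 hπ₀)
    · rw [Int.cast_natCast, hord]
    · rw [hdeg, Fintype.card_fin]
  have hxq : (x ^ q) ^ r = 1 := by rw [← pow_mul, mul_comm, pow_mul, hxr, one_pow]
  have hreg : ∀ s, s < D.nroots → chi x (rv D T s) ≠ 1 := fun s hs =>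
    regular_of_eigen hc hπ₀ hd hcp hr2 hW' hxr hx1 (by rw [hact]; exact hLA x rfl) hs
  have hregq : ∀ s, s < D.nroots → chi (x ^ q) (rv D T s) ≠ 1 := fun s hs h => by
    rw [chi_pow'] at h
    exact hreg s hs (eq_of_pow_coprime h (by rw [← chi_pow', hxr, chi_one]) (hr.coprime_iff_not_dvd.2 hrq).symm)
  -- `c` acts on the whole torus as the Weyl element
  have hxqd : torus D T E (x ^ q) ∈ D.diagonalSubgroup E := by rw [map_pow]; exact pow_mem hxd q
  have hn : c * (nProd D E L)⁻¹ ∈ D.diagonalSubgroup E := by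
    refine mem_diagonal_of_commute hc hcomm hxqd hregq (fun π hπ => stab_regular hc hW' hxq hregq hπ)
      (mul_mem hcG (inv_mem (monomial_le_group hc (nProd_mem_monomial hc L)))) ?_
    calc c * (nProd D E L)⁻¹ * torus D T E (x ^ q) * (c * (nProd D E L)⁻¹)⁻¹
        = c * ((nProd D E L)⁻¹ * torus D T E (x ^ q) * nProd D E L) * c⁻¹ := by group
      _ = c * torus D T E x * c⁻¹ := by
          rw [← hLA x rfl, ← nProd_conj_torus hc L x]; group
      _ = _ := hcx
  obtain ⟨a, ha⟩ := (mem_diagonal hc).1 hn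
  have hcact : ∀ χ : Fin D.rank → Eˣ, c * torus D T E χ * c⁻¹ = torus D T E (reflChars L χ) := by
    intro χ
    rw [show c = torus D T E (hPar D E a) * nProd D E L by rw [ha]; group, ← nProd_conj_torus hc L χ,
      mul_inv_rev, ← mul_assoc]
    calc torus D T E (hPar D E a) * nProd D E L * torus D T E χ * (nProd D E L)⁻¹ * (torus D T E (hPar D E a))⁻¹
        = torus D T E (hPar D E a) * torus D T E (reflChars L χ) * (torus D T E (hPar D E a))⁻¹ := by
          rw [← nProd_conj_torus hc L χ]; group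
      _ = torus D T E (reflChars L χ) := by
          rw [← map_mul, mul_comm, map_mul]; group
      _ = _ := (nProd_conj_torus hc L χ).symm
  let K : Subgroup (Fin D.rank → Eˣ) := MonoidHom.eqLocus (permAct hc π₀) (powMonoidHom q)
  have hKmem : ∀ χ, χ ∈ K ↔ reflChars L χ = χ ^ q := fun χ => by
    show permAct hc π₀ χ = _ ↔ _
    rw [hact]; rfl
  have hKfix : ∀ χ, χ ∈ K ↔ glMap D σ (g⁻¹ * torus D T E χ * g) = g⁻¹ * torus D T E χ * g := fun χ => by
    rw [hσfix, hcact, hKmem, (torus_injective hc).eq_iff]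
  obtain ⟨hKc, hKcard⟩ := twisted_kernel hc (A := A) (E := E) hd hrank hcp hΦ
    (lt_of_lt_of_le hr.one_lt (Nat.le_of_dvd (Nat.pos_of_ne_zero fun h => hQ0 (by simpa [h] using hΦdvd)) hrΦ))
    (by rw [Nat.card_units, Nat.card_eq_fintype_card, hE]; exact hΦdvd) hsq K fun χ => by
      rw [hKmem]
      constructor
      · intro h v; rw [chi_permMat, hact, h, chi_pow']
      · intro h
        refine chi_ext fun v => ?_
        rw [← hact, ← chi_permMat, h, chi_pow']
  have hcom := congrArg (fun b : ↥(D.group F) => glMap D ι (b : GL D.Idx F)) hz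
  simp only [Subgroup.coe_mul, map_mul, hgx] at hcom
  set w := glMap D ι (z : GL D.Idx F)
  have hwd : g * w * g⁻¹ ∈ D.diagonalSubgroup E := by
    refine mem_diagonal_of_commute hc hcomm hxd hreg (fun π hπ => stab_regular hc hW' hxr hreg hπ)
      (mul_mem (mul_mem hg (glMap_group hc ι z.2)) (inv_mem hg)) ?_
    calc g * w * g⁻¹ * torus D T E x * (g * w * g⁻¹)⁻¹
        = g * (w * (g⁻¹ * torus D T E x * g)) * w⁻¹ * g⁻¹ := by group
      _ = torus D T E x := by rw [← hcom]; group
  obtain ⟨b, hb⟩ := (mem_diagonal hc).1 hwd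
  have hw : g⁻¹ * torus D T E (hPar D E b) * g = w := by rw [hb]; group
  have hbK : hPar D E b ∈ K := (hKfix _).2 (by rw [hw]; exact hσι _)
  have hbΦ : hPar D E b ^ Φq = 1 := by
    have h := pow_card_eq_one' (x := (⟨_, hbK⟩ : ↥K))
    rw [hKcard] at h
    exact congrArg Subtype.val h
  refine orderOf_dvd_of_pow_eq_one (Subtype.ext (glMap_injective ι ?_))
  rw [SubmonoidClass.coe_pow, map_pow, OneMemClass.coe_one, map_one]
  show w ^ Φq = 1
  rw [← hw]
  calc (g⁻¹ * torus D T E (hPar D E b) * g) ^ Φq = MulAut.conj g⁻¹ (torus D T E (hPar D E b) ^ Φq) := by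
        rw [map_pow, MulAut.conj_apply, inv_inv]
    _ = 1 := by rw [← map_pow, hbΦ, map_one, map_one]

end

end CfsgLib.G2Orders
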