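import Cfsg.Agent.Lib.G2Orders.Semisimple

/-!
Elements of the maximal orders of G₂ in odd characteristic.
-/

set_option autoImplicit false
set_option linter.unusedSectionVars false

namespace CfsgLib.G2Orders

open Cfsg.Lie CfsgLib.Chev CfsgLib.G2Invol CfsgLib.ChevField CfsgLib.ChevSL2 CfsgLib.SteinbergTwo
open Matrix

variable {F : Type*} [Field F]

theorem dd_injective {K : Type*} [Field K] : Function.Injective (dd (F := K)) := fun s t h => by
  have := congrArg (fun A : SpecialLinearGroup (Fin 2) K => A 0 0) h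
  exact Units.ext (by simpa [coe_dd] using this)

/-- the diagonal embedding -/
def ddHom (K : Type*) [Field K] : Kˣ →* SpecialLinearGroup (Fin 2) K where
  toFun := dd
  map_one' := dd_one
  map_mul' s t := (dd_mul s t).symm

theorem orderOf_dd {K : Type*} [Field K] (s : Kˣ) : orderOf (dd s) = orderOf s :=
  orderOf_injective (ddHom K) dd_injective s

theorem orderOf_of_twist_one {K : Type*} [Field K] {A P : SpecialLinearGroup (Fin 2) K} {μ : Kˣ}
    (h : P * A = dd μ * P) : orderOf A = orderOf μ := by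
  have e : MulAut.conj P A = dd μ := by rw [MulAut.conj_apply, h, mul_inv_cancel_right]
  rw [← orderOf_dd, ← e]
  exact (orderOf_injective (MulAut.conj P).toMonoidHom (MulAut.conj P).injective A).symm

theorem map_SL_injective {K : Type*} [Field K] (ι : F →+* K) :
    Function.Injective (SpecialLinearGroup.map (n := Fin 2) ι) := fun a b h => by
  ext r s
  exact ι.injective (congrArg (fun M : SpecialLinearGroup (Fin 2) K => M r s) h)

/-- SL(2) has elements of orders `q - 1` and `q + 1` -/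
theorem sl2_orders [Fintype F] (hq3 : 3 ≤ Fintype.card F) :
    (∃ A : SpecialLinearGroup (Fin 2) F, orderOf A = Fintype.card F - 1) ∧
    (∃ A : SpecialLinearGroup (Fin 2) F, orderOf A = Fintype.card F + 1) := by
  classical
  constructor
  · obtain ⟨μ, hμ⟩ := IsCyclic.exists_ofOrder_eq_natCard (α := Fˣ)
    exact ⟨dd μ, by rw [orderOf_dd, hμ, Nat.card_units, Nat.card_eq_fintype_card]⟩
  set q := Fintype.card F with hq
  obtain ⟨E, iE, iF, ι, σ, hfix, hσ, hE⟩ := ChevCent.exists_extension F (d := 2) two_pos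
  obtain ⟨g, hg⟩ := IsCyclic.exists_ofOrder_eq_natCard (α := Eˣ)
  rw [Nat.card_units, Nat.card_eq_fintype_card, hE, ← hq] at hg
  have hfac : q ^ 2 - 1 = (q - 1) * (q + 1) := by
    obtain ⟨j, hj⟩ : ∃ j, q = j + 1 := ⟨q - 1, by omega⟩
    rw [hj, show (j + 1) ^ 2 = j * (j + 1 + 1) + 1 by ring, Nat.add_sub_cancel, Nat.add_sub_cancel]
  set μ := g ^ (q - 1) with hμ
  have hμo : orderOf μ = q + 1 := by
    rw [hμ, orderOf_pow_of_dvd (by omega) (hg ▸ hfac ▸ dvd_mul_right _ _), hg, hfac,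
      Nat.mul_div_cancel_left _ (by omega)]
  have hμq : μ ^ q * μ = 1 := by rw [← pow_succ, ← hμo, pow_orderOf_eq_one]
  have hne : (μ : E) ≠ (μ ^ q : Eˣ) := fun h => by
    have h' : μ = μ ^ q := Units.ext h
    rw [← h'] at hμq
    have := orderOf_dvd_of_pow_eq_one (show μ ^ 2 = 1 by rw [sq]; exact hμq)
    rw [hμo] at this
    have := Nat.le_of_dvd two_pos this
    omega
  have hμqq : μ ^ (q * q) = μ := by
    have h1 : q * q = (q + 1) * (q - 1) + 1 := by
      have : 1 ≤ q * q := Nat.mul_pos (by omega) (by omega)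
      rw [mul_comm (q + 1), ← hfac, sq]
      omega
    rw [h1, pow_succ, pow_mul, ← hμo, pow_orderOf_eq_one, one_pow, one_mul]
  have hσu : ∀ u : Eˣ, σ (u : E) = ((u ^ q : Eˣ) : E) := fun u => by rw [hσ, Units.val_pow_eq_pow_val]
  obtain ⟨τ, hτ⟩ := (hfix ((μ : E) + (μ ^ q : Eˣ))).1 (by
    rw [map_add, hσu, hσu, ← pow_mul μ q q, hμqq, add_comm])
  refine ⟨⟨!![τ, -1; 1, 0], by simp [det_fin_two]⟩, ?_⟩
  set A : SpecialLinearGroup (Fin 2) F := ⟨!![τ, -1; 1, 0], _⟩ with hA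
  obtain ⟨P, ν, hν, hP⟩ := twist_diag (1 : Eˣ) (SpecialLinearGroup.map ι A) (l := μ) (m := (μ ^ q : Eˣ))
    (by show _ = ((1 : Eˣ) : E) * ι τ + ι (0 : F); rw [Units.val_one, one_mul, map_zero, add_zero, hτ])
    (by rw [← Units.val_mul, mul_comm, hμq]) hne
  rw [inv_one, dtwist_one] at hP
  have hνμ : ν = μ := Units.ext (by simpa using hν)
  rw [← orderOf_injective (SpecialLinearGroup.map ι) (map_SL_injective ι) A, orderOf_of_twist_one hP, hνμ, hμo]

/-- elements `psi (A, B)` with `B` unipotent -/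
theorem psi_order (p : ℕ) [Fact p.Prime] [CharP F p] (A : SpecialLinearGroup (Fin 2) F) :
    orderOf (⟨psi (A, img F (true, 1)), psi_mem_group _⟩ : ↥(chevG2.group F)) = Nat.lcm (orderOf A) p := by
  have hpow : ∀ n : ℕ, (img F (true, (1 : F))) ^ n = img F (true, (n : F)) := by
    intro n
    induction n with
    | zero => ext r s; fin_cases r <;> fin_cases s <;> simp [coe_img]
    | succ n ih =>
      rw [pow_succ, ih]
      ext r s
      fin_cases r <;> fin_cases s <;> simp [coe_img, Matrix.mul_apply, Fin.sum_univ_two, add_comm]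
  have hB : orderOf (img F (true, (1 : F))) = p := by
    refine orderOf_eq_prime ?_ fun h => ?_
    · rw [hpow, CharP.cast_eq_zero]
      ext r s; fin_cases r <;> fin_cases s <;> simp [coe_img]
    · have := congrArg (fun M : SpecialLinearGroup (Fin 2) F => M 0 1) h
      simp [coe_img] at this
  rw [← Subgroup.orderOf_coe]
  have h : ∀ n : ℕ, psi (A, img F (true, (1 : F))) ^ n = 1 ↔ (A, img F (true, (1 : F))) ^ n = 1 := by
    intro n
    refine ⟨fun h => ?_, fun h => by rw [← map_pow, h, map_one]⟩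
    rw [← map_pow, Prod.pow_mk, hpow] at h
    rw [Prod.pow_mk, hpow]
    rcases psi_ker h with e | e
    · exact e
    · have := congrArg (fun M : SpecialLinearGroup (Fin 2) F => M 0 0) (Prod.mk.inj e).2
      simp [coe_img, coe_dd] at this
      have h1 : (-1 : Fˣ) = 1 := Units.ext (by simpa using this.symm)
      rw [e, h1, dd_one]; rfl
  rw [orderOf_eq_orderOf_iff.2 h, Prod.orderOf, hB]

theorem orders_mixed [Fintype F] (p : ℕ) [Fact p.Prime] [CharP F p] (hq3 : 3 ≤ Fintype.card F) :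
    (∃ g : ↥(chevG2.group F), orderOf g = p * (Fintype.card F + 1)) ∧
    (∃ g : ↥(chevG2.group F), orderOf g = p * (Fintype.card F - 1)) := by
  obtain ⟨⟨A, hA⟩, ⟨B, hB⟩⟩ := sl2_orders (F := F) hq3
  obtain ⟨n, hn0, hn⟩ := FiniteField.card F p
  have hpp := (Fact.out : p.Prime)
  have hdvd : p ∣ Fintype.card F := hn ▸ dvd_pow_self p n.pos.ne'
  refine ⟨⟨_, (psi_order p B).trans ?_⟩, ⟨_, (psi_order p A).trans ?_⟩⟩
  · rw [hB, Nat.Coprime.lcm_eq_mul, mul_comm]
    refine (hpp.coprime_iff_not_dvd.2 fun h => hpp.not_dvd_one ?_).symm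
    exact (Nat.dvd_add_right hdvd).1 h
  · rw [hA, Nat.Coprime.lcm_eq_mul, mul_comm]
    refine (hpp.coprime_iff_not_dvd.2 fun h => hpp.not_dvd_one ?_).symm
    have h1 := Nat.dvd_sub hdvd h
    have := (Fintype.one_lt_card : 1 < Fintype.card F)
    rwa [show Fintype.card F - (Fintype.card F - 1) = 1 by omega] at h1

theorem order_sq_sub_one [Fintype F] :
    ∃ g : ↥(chevG2.group F), orderOf g = Fintype.card F ^ 2 - 1 := by
  classical
  set q := Fintype.card F with hq
  have hq1 : 1 < q := Fintype.one_lt_card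
  obtain ⟨E, iE, iF, ι, σ, hfix, hσ, hE⟩ := ChevCent.exists_extension F (d := 2) two_pos
  rw [← hq] at hσ hE
  obtain ⟨g, hg⟩ := IsCyclic.exists_ofOrder_eq_natCard (α := Eˣ)
  rw [Nat.card_units, Nat.card_eq_fintype_card, hE] at hg
  have hcard : ∀ u : Eˣ, u ^ (q ^ 2 - 1) = 1 := fun u => by
    have : Nat.card Eˣ = q ^ 2 - 1 := by rw [Nat.card_units, Nat.card_eq_fintype_card, hE]
    rw [← this]; exact pow_card_eq_one'
  have hqq : (g : E) ^ (q * q) = g := by
    rw [← Units.val_pow_eq_pow_val]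
    congr 1
    have : q * q = q ^ 2 - 1 + 1 := by
      have : 1 ≤ q ^ 2 := Nat.one_le_pow _ _ (by omega)
      rw [← sq]; omega
    rw [this, pow_succ, hcard, one_mul]
  obtain ⟨τ, hτ⟩ := (hfix ((g : E) + (g : E) ^ q)).1 (by
    rw [map_add, map_pow, hσ, ← pow_mul, hqq, add_comm])
  obtain ⟨c0, hc0⟩ := (hfix ((g : E) * (g : E) ^ q)).1 (by
    rw [map_mul, map_pow, hσ, ← pow_mul, hqq, mul_comm])
  have hc0' : c0 ≠ 0 := fun h => mul_ne_zero g.ne_zero (pow_ne_zero q g.ne_zero) (by rw [← hc0, h, map_zero])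
  set c := Units.mk0 c0 hc0'
  set A : SpecialLinearGroup (Fin 2) F := ⟨!![τ / c0, -1; 1, 0], by simp [det_fin_two]⟩ with hA
  set cE := Units.map ι.toMonoidHom c with hcE
  have hne : (g : E) ≠ (g : E) ^ q := fun h => by
    have h1 : g ^ (q - 1) = 1 := Units.ext (by
      rw [Units.val_pow_eq_pow_val, Units.val_one]
      refine mul_right_cancel₀ g.ne_zero ?_
      rw [← pow_succ, show q - 1 + 1 = q by omega, one_mul, ← h])
    have h2 := Nat.le_of_dvd (by omega) (orderOf_dvd_of_pow_eq_one h1)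
    rw [hg] at h2
    have : q < q ^ 2 := by nlinarith
    omega
  obtain ⟨P, μ, hμ, hP⟩ := twist_diag cE (SpecialLinearGroup.map ι A) (l := (g : E)) (m := (g : E) ^ q)
    (by
      show _ = ι c0 * ι (τ / c0) + ι (0 : F)
      rw [map_div₀, mul_div_cancel₀ _ ((map_ne_zero ι).2 hc0'), map_zero, add_zero, hτ])
    (by rw [← hc0]; rfl) hne
  set χ₀ : Fin chevG2.rank → Fˣ := chr c c⁻¹
  set χE : Fin chevG2.rank → Eˣ := fun j => Units.map ι.toMonoidHom (χ₀ j) with hχE
  have hχa : χE ia = cE := by rw [hχE]; simp [χ₀, chr_ia, hcE]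
  have hχb : χE ib = cE⁻¹ := by rw [hχE]; simp [χ₀, chr_ib, hcE]
  set χ := χE * corChar chevG2 G2.tabs (chevG2.simple ia) μ with hχ
  refine ⟨⟨torus chevG2 G2.tabs F χ₀ * phiS ia A,
    mul_mem (diagonal_le_group hcG (G2Invol.tor_mem _)) (phiS_mem_group ia A)⟩, ?_⟩
  rw [← Subgroup.orderOf_coe]
  have hconj : phiS ia P * glMap chevG2 ι (torus chevG2 G2.tabs F χ₀ * phiS ia A) * (phiS ia P)⁻¹ =
      torus chevG2 G2.tabs E χ := by
    rw [map_mul, glMap_torus, glMap_phiS]
    exact conj_twist ia χE P _ μ (by rw [hχa]; exact hP)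
  have hord : orderOf (torus chevG2 G2.tabs F χ₀ * phiS ia A) = orderOf χ := by
    rw [← orderOf_injective (torus chevG2 G2.tabs E) (torus_injective hcG) χ, ← hconj]
    exact ((orderOf_injective (MulAut.conj (phiS ia P)).toMonoidHom (MulAut.conj (phiS ia P)).injective _).trans
      (orderOf_injective (glMap chevG2 ι) (glMap_injective ι) _)).symm
  refine hord.trans (hg ▸ orderOf_eq_orderOf_iff.2 fun n => ⟨fun h => ?_, fun h => ?_⟩)
  · have ha := congrFun h ia
    have hb := congrFun h ib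
    rw [Pi.pow_apply, hχ, Pi.mul_apply, corChar_simple, cm_vals.1, hχa, Pi.one_apply, zpow_ofNat] at ha
    rw [Pi.pow_apply, hχ, Pi.mul_apply, corChar_simple, cm_vals.2.1, hχb, Pi.one_apply, _root_.zpow_neg,
      zpow_ofNat] at hb
    have e : g = (cE * μ ^ 2) ^ 2 * (cE⁻¹ * (μ ^ 3)⁻¹) := Units.ext (by
      simp only [Units.val_mul, Units.val_pow_eq_pow_val, Units.val_inv_eq_inv_val]
      have h1 := cE.ne_zero
      have h2 := μ.ne_zero
      rw [← hμ]
      field_simp)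
    rw [e, mul_pow, ← pow_mul, mul_comm 2 n, pow_mul, ha, hb, one_pow, mul_one]
  · funext j
    rw [Pi.pow_apply, Pi.one_apply]
    have hdvd : q ^ 2 - 1 ∣ n := hg ▸ orderOf_dvd_of_pow_eq_one h
    obtain ⟨k, rfl⟩ := hdvd
    rw [pow_mul, hcard, one_pow]

theorem order_phi [Fintype F] (hq : 4 ≤ Fintype.card F) :
    (∃ g : ↥(chevG2.group F), orderOf g = Fintype.card F ^ 2 + Fintype.card F + 1) ∧
    (∃ g : ↥(chevG2.group F), orderOf g = Fintype.card F ^ 2 - Fintype.card F + 1) := by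
  classical
  set q := Fintype.card F with hqdef
  obtain ⟨c3, c6⟩ := cyclo_vals q
  obtain ⟨n93, n23, n96, n26⟩ := phi_sq q
  have hex : ∀ N : ℕ, 4 ≤ N → ¬ 9 ∣ N → ∃ r, r.Prime ∧ r ∣ N ∧ r ≠ 3 := by
    intro N h4 h9
    by_cases h3 : 3 ∣ N
    · obtain ⟨m, rfl⟩ := h3
      obtain ⟨r, hr, hrm⟩ := Nat.exists_prime_and_dvd (show m ≠ 1 by omega)
      exact ⟨r, hr, dvd_mul_of_dvd_right hrm 3, fun h => h9 (Nat.mul_dvd_mul_left 3 (h ▸ hrm))⟩
    · obtain ⟨r, hr, hrm⟩ := Nat.exists_prime_and_dvd (show N ≠ 1 by omega)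
      exact ⟨r, hr, hrm, fun h => h3 (h ▸ hrm)⟩
  have hcard : ∀ N, N ∣ (q ^ 2 + q + 1) * (q ^ 2 - q + 1) → N ∣ Nat.card ↥(chevG2.group F) := fun N h => by
    rw [card_group_G2 hqdef.symm, card_factor q (by omega)]; exact dvd_mul_of_dvd_right h _
  have hqsq : q + 4 ≤ q ^ 2 := by nlinarith
  constructor
  · obtain ⟨r, hr, hrΦ, hr3⟩ := hex (q ^ 2 + q + 1) (by omega) n93
    have := Fact.mk hr
    have hr2 : r ≠ 2 := fun h => n23 (h ▸ hrΦ)
    obtain ⟨H, hH, hcardH, -⟩ := ChevCent.cyclic_self_centralizing hcG hcommG hqdef.symm (d := 3) (by norm_num)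
      (by decide) (by decide +kernel) cartInv_spec (J := [ia, ib]) (by decide) c3
      (fun l hl h h' => by
        obtain rfl := (Nat.prime_dvd_prime_iff_eq hl Nat.prime_three).1 h
        exact n93 h') hr2 hrΦ
      (fun h => hr3 ((Nat.prime_dvd_prime_iff_eq hr Nat.prime_three).1 h)) (wsum_ok hr hr2 hr3)
      (hcard r (dvd_mul_of_dvd_left hrΦ _))
    obtain ⟨h, hh⟩ := hH.exists_ofOrder_eq_natCard
    exact ⟨h, by rw [Subgroup.orderOf_coe, hh, hcardH]⟩
  · obtain ⟨r, hr, hrΦ, hr3⟩ := hex (q ^ 2 - q + 1) (by omega) n96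
    have := Fact.mk hr
    have hr2 : r ≠ 2 := fun h => n26 (h ▸ hrΦ)
    have h62 : ∀ l : ℕ, l.Prime → l ∣ 6 → l = 2 ∨ l = 3 := fun l hl h => by
      rcases hl.dvd_mul.1 (show l ∣ 2 * 3 from h) with h | h
      · exact Or.inl ((Nat.prime_dvd_prime_iff_eq hl Nat.prime_two).1 h)
      · exact Or.inr ((Nat.prime_dvd_prime_iff_eq hl Nat.prime_three).1 h)
    obtain ⟨H, hH, hcardH, -⟩ := ChevCent.cyclic_self_centralizing hcG hcommG hqdef.symm (d := 6) (by norm_num)
      (by decide) (by decide +kernel) cartInv_spec (J := [ia, ib]) (by decide) c6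
      (fun l hl h h' => by
        rcases h62 l hl h with rfl | rfl
        · exact n26 ((dvd_pow_self 2 two_ne_zero).trans h')
        · exact n96 h') hr2 hrΦ
      (fun h => (h62 r hr h).elim hr2 hr3) (wsum_ok hr hr2 hr3)
      (hcard r (dvd_mul_of_dvd_right hrΦ _))
    obtain ⟨h, hh⟩ := hH.exists_ofOrder_eq_natCard
    exact ⟨h, by rw [Subgroup.orderOf_coe, hh, hcardH]⟩

/-- vectors of the adjoint module -/
def vec (L : List ℤ) (x : chevG2.Idx) : ℤ := L.getD (cd chevG2 x) 0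

/-- the integral root element -/
noncomputable def xInt (r : ℕ) : Matrix chevG2.Idx chevG2.Idx ℤ :=
  1 + tabMat chevG2 G2.tabs 1 r + tabMat chevG2 G2.tabs 2 r + tabMat chevG2 G2.tabs 3 r

theorem coe_elX_one {r : ℕ} (hr : r < chevG2.nroots) :
    ((elX chevG2 F r 1 : GL chevG2.Idx F) : Matrix chevG2.Idx chevG2.Idx F) =
      (Int.castRingHom F).mapMatrix (xInt r) := by
  rw [coe_elX hcG F hr, xMat_eq hcG F hr]
  simp only [xTab, xInt, one_pow, one_smul, map_add, map_one]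
  rfl

theorem iterate_step (p : ℕ) [Fact p.Prime] [CharP F p] {V : ℕ → List ℤ} {k : ℕ}
    (hV : ∀ i < k, ∀ x, (xInt 7 *ᵥ (xInt 6 *ᵥ vec (V i))) x = vec (V i) x + vec (V (i + 1)) x) :
    ((((elX chevG2 F 7 1 * elX chevG2 F 6 1 : GL chevG2.Idx F) : Matrix chevG2.Idx chevG2.Idx F) - 1) ^ k) *ᵥ
      (fun x => (vec (V 0) x : F)) = fun x => (vec (V k) x : F) := by
  induction k with
  | zero => simp
  | succ k ih =>
    rw [pow_succ', ← mulVec_mulVec, ih fun i hi => hV i (by omega), sub_mulVec, one_mulVec, Units.val_mul,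
      ← mulVec_mulVec, coe_elX_one (by decide), coe_elX_one (by decide)]
    funext x
    have h := congrArg (fun z : ℤ => (z : F)) (hV k (by omega) x)
    simp only [Int.cast_add] at h
    rw [Pi.sub_apply, sub_eq_iff_eq_add', ← h]
    have e1 : ∀ (M : Matrix chevG2.Idx chevG2.Idx ℤ) (v : chevG2.Idx → ℤ),
        (Int.castRingHom F).mapMatrix M *ᵥ (fun y => (v y : F)) = fun y => (((M *ᵥ v) y : ℤ) : F) := fun M v => by
      funext y
      exact ((Int.castRingHom F).map_mulVec M v y).symm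
    rw [e1, e1]

/-- iterates of `x_a x_b - 1` on a lowest vector -/
def nilVec : ℕ → List ℤ
  | 0 => [1, 0, 0, 0, 0, 0, 0, 0, 0, 0, 0, 0, 0, 0]
  | 1 => [0, -1, 1, 1, 0, 1, 0, 0, 0, 0, 0, 0, 0, 0]
  | 2 => [0, 0, 1, 3, -1, 7, -1, 2, 1, -1, -1, 0, -1, 1]
  | 3 => [0, 0, 0, 2, -3, 12, -12, 14, 15, -19, -25, -1, -4, 7]
  | 4 => [0, 0, 0, 0, -2, 6, -38, 32, 64, -108, -194, -25, -5, 12]
  | _ => [0, 0, 0, 0, 0, 0, -45, 30, 115, -275, -695, -194, -2, 6]

theorem nilVec_spec : ∀ i : Fin 5, ∀ x,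
    (xInt 7 *ᵥ (xInt 6 *ᵥ vec (nilVec i.val))) x = vec (nilVec i.val) x + vec (nilVec (i.val + 1)) x := by
  decide +kernel

theorem order_regular [Fintype F] (p : ℕ) [Fact p.Prime] [CharP F p] (hp : p = 3 ∨ p = 5) :
    ∃ g : ↥(chevG2.group F), orderOf g = p ^ 2 := by
  classical
  set u : GL chevG2.Idx F := elX chevG2 F 7 1 * elX chevG2 F 6 1 with hu
  have hp6 : p ≤ 5 := by omega
  have : Nonempty chevG2.Idx := ⟨Sum.inl ia⟩
  have hne : u ^ p ≠ 1 := by
    intro h
    have h1 := sub_pow_char_pow_of_commute p 1 (Commute.one_right (u : Matrix chevG2.Idx chevG2.Idx F))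
    rw [pow_one, one_pow, ← Units.val_pow_eq_pow_val, h, Units.val_one, sub_self] at h1
    have h2 := iterate_step (F := F) p (V := nilVec) (k := p) fun i hi => nilVec_spec ⟨i, by omega⟩
    rw [← hu, h1, zero_mulVec] at h2
    rcases hp with rfl | rfl
    · have h3 := congrFun h2 (Sum.inr ⟨3, by decide⟩)
      have h4 : (3 : ℤ) ∣ 2 := (CharP.intCast_eq_zero_iff F 3 2).1 h3.symm
      omega
    · have h3 := congrFun h2 (Sum.inr ⟨11, by decide⟩)
      have h4 : (5 : ℤ) ∣ -194 := (CharP.intCast_eq_zero_iff F 5 (-194)).1 h3.symm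
      omega
  have hU : u ∈ uGen chevG2 F (fun r => chevG2.nroots / 2 ≤ r) :=
    mul_mem (elX_mem_uGen (by decide) (P := fun r => chevG2.nroots / 2 ≤ r) (show 12 / 2 ≤ 7 by decide) 1)
      (elX_mem_uGen (by decide) (P := fun r => chevG2.nroots / 2 ≤ r) (show 12 / 2 ≤ 6 by decide) 1)
  have hmem : u ∈ chevG2.group F := mul_mem (elX_mem_group hcG (by decide) 1) (elX_mem_group hcG (by decide) 1)
  refine ⟨⟨u, hmem⟩, ?_⟩
  rw [← Subgroup.orderOf_coe]
  exact orderOf_eq_prime_pow (n := 1) (by rwa [pow_one])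
    (pos_exponent p (by rcases hp with rfl | rfl <;> norm_num) hU)

end CfsgLib.G2Orders
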