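import Cfsg.Agent.Lib.G2Invol.Cent
import Cfsg.Agent.Lib.ChevTwoExp.Basic

/-!
Exponents of groups of root elements through gradings.
-/

set_option autoImplicit false
set_option linter.unusedSectionVars false

namespace CfsgLib.G2Orders

open Cfsg.Lie CfsgLib.Chev CfsgLib.G2Invol CfsgLib.ChevTorusCent
open scoped Matrix

variable {D : ChevalleyDatum} {T : Tabs} {F : Type*} [Field F]

theorem pow_raises {ι : Type*} [Fintype ι] [DecidableEq ι] (w : ι → ℤ) (d : ℤ) {M : Matrix ι ι F}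
    (hM : ∀ x y, M x y ≠ 0 → w y + d ≤ w x) :
    ∀ k : ℕ, ∀ x y, (M ^ k) x y ≠ 0 → w y + k * d ≤ w x := by
  intro k
  induction k with
  | zero =>
      intro x y h
      rw [pow_zero, Matrix.one_apply] at h
      split at h
      · subst_vars; simp
      · exact absurd rfl h
  | succ k ih =>
      intro x y h
      rw [pow_succ, Matrix.mul_apply] at h
      obtain ⟨z, -, hz⟩ := Finset.exists_ne_zero_of_sum_ne_zero h
      have h1 := ih x z (left_ne_zero_of_mul hz)
      have h2 := hM z y (right_ne_zero_of_mul hz)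
      push_cast
      linarith

/-- An element of a root group whose matrix raises a grading beyond all its roots is trivial. -/
theorem eq_one_of_raises (hc : Checked D T) (hcomm : CommOne D T) {P : ℕ → Prop} (hP : ClosedPos D T P)
    {f : (Fin D.rank → ℤ) → ℤ} (hf : ∀ v w, f (v + w) = f v + f w) {e : ℤ}
    (hPe : ∀ r, r < D.nroots → P r → f (rv D T r) < e) {g : GL D.Idx F} (hg : g ∈ uGen D F P)
    (hR : Raises D T f e (g : Matrix D.Idx D.Idx F)) : g = 1 := by
  classical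
  obtain ⟨t, rfl⟩ := uGen_exists hc hcomm hP hg
  have h0 : f 0 = 0 := by have := hf 0 0; rw [zero_add] at this; linarith
  suffices key : ∀ d k, D.nroots - k = d →
      Raises D T f e ((uProd D F (rootsFrom D P k) t : GL D.Idx F) : Matrix D.Idx D.Idx F) →
      uProd D F (rootsFrom D P k) t = 1 from key _ 0 rfl hR
  intro d
  induction d with
  | zero => intro k hk _; rw [rootsFrom_ge (by omega)]; rfl
  | succ d ih =>
    intro k hk h
    have hkn : k < D.nroots := by omega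
    by_cases hPk : P k
    · have e1 : uProd D F (rootsFrom D P k) t = elX D F k (t k) * uProd D F (rootsFrom D P (k + 1)) t := by
        rw [rootsFrom_eq_cons hkn hPk, uProd, List.map_cons, List.prod_cons]; rfl
      have hv : uProd D F (rootsFrom D P (k + 1)) t ∈ uGen D F (fun r => k < r) :=
        uGen_mono (fun r _ hr => hr.2) (uProd_mem hc (k + 1) t)
      obtain ⟨j, hj⟩ := exists_cv_ne_zero hc F hkn
      have ht : t k = 0 := by
        by_contra htk
        have h1 := coord_eq hc hkn (hP.1 k hkn hPk) (t k) hv j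
        rw [← e1] at h1
        have h2 := h (Sum.inl j) (Sum.inr ⟨D.neg k, neg_lt hc hkn⟩) (by
          rw [h1, Matrix.one_apply_ne (by simp)]; exact mul_ne_zero hj htk)
        have h3 : f (-(rv D T k)) = -f (rv D T k) := by
          have := hf (rv D T k) (-(rv D T k)); rw [add_neg_cancel, h0] at this; linarith
        rw [wI_inl, h0, wI_inr, rv_neg hc hkn, h3] at h2
        have := hPe k hkn hPk
        linarith
      rw [e1, ht, elX_zero hc F hkn, one_mul] at h ⊢
      exact ih (k + 1) (by omega) h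
    · rw [rootsFrom_eq_skip hkn hPk] at h ⊢
      exact ih (k + 1) (by omega) h

/-- exponent of a root group from a grading -/
theorem pow_eq_one_of_grading (hc : Checked D T) (hcomm : CommOne D T) (p : ℕ) [Fact p.Prime] [CharP F p]
    {P : ℕ → Prop} (hP : ClosedPos D T P) {f : (Fin D.rank → ℤ) → ℤ} (hf : ∀ v w, f (v + w) = f v + f w)
    (hf' : ∀ (c : ℤ) v, f (c • v) = c * f v) {d : ℤ} (hd : 0 ≤ d) {e : ℕ}
    (hlo : ∀ r, r < D.nroots → P r → d ≤ f (rv D T r))
    (hhi : ∀ r, r < D.nroots → P r → f (rv D T r) < (p ^ e : ℕ) * d)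
    {g : GL D.Idx F} (hg : g ∈ uGen D F P) : g ^ p ^ e = 1 := by
  refine eq_one_of_raises hc hcomm hP hf hhi (pow_mem hg _) fun x y h => ?_
  have hR : Raises D T f d (g : Matrix D.Idx D.Idx F) := raises_uGen hc hf hf' hd hlo hg
  set M : Matrix D.Idx D.Idx F := (g : Matrix D.Idx D.Idx F) - 1 with hM
  have hMr : ∀ x y, M x y ≠ 0 → f (wI D T y) + d ≤ f (wI D T x) := fun x y h => hR x y fun e => h (by
    rw [hM, Matrix.sub_apply, e, sub_self])
  refine pow_raises (fun x => f (wI D T x)) d hMr (p ^ e) x y fun h0 => h ?_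
  have : Nonempty D.Idx := ⟨x⟩
  have h1 := sub_pow_char_pow_of_commute p e (Commute.one_right (g : Matrix D.Idx D.Idx F))
  rw [← hM, one_pow] at h1
  rw [h1, Matrix.sub_apply, sub_eq_zero] at h0
  rw [Units.val_pow_eq_pow_val]
  exact h0

/-- the functional `α ↦ a α₁ + b α₂` -/
def lin (a b : ℤ) (v : Fin chevG2.rank → ℤ) : ℤ := a * v ia + b * v ib

theorem lin_add (a b : ℤ) (v w : Fin chevG2.rank → ℤ) : lin a b (v + w) = lin a b v + lin a b w := by
  simp only [lin, Pi.add_apply]; ring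

theorem lin_smul (a b c : ℤ) (v : Fin chevG2.rank → ℤ) : lin a b (c • v) = c * lin a b v := by
  simp only [lin, Pi.smul_apply, smul_eq_mul]; ring

/-- exponent of the positive root group -/
theorem pos_exponent (p : ℕ) [Fact p.Prime] [CharP F p] {e : ℕ} (he : 6 ≤ p ^ e) {g : GL chevG2.Idx F}
    (hg : g ∈ uGen chevG2 F (fun r => chevG2.nroots / 2 ≤ r)) : g ^ p ^ e = 1 := by
  have hb : ∀ r : Fin chevG2.nroots, chevG2.nroots / 2 ≤ r.val →
      1 ≤ lin 1 1 (rv chevG2 G2.tabs r.val) ∧ lin 1 1 (rv chevG2 G2.tabs r.val) ≤ 5 := by decide +kernel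
  refine pow_eq_one_of_grading hcG hcommG p (closedPos_pos hcG) (lin_add 1 1) (lin_smul 1 1) zero_le_one
    (fun r hr h => (hb ⟨r, hr⟩ h).1) (fun r hr h => ?_) hg
  have := (hb ⟨r, hr⟩ h).2
  have : (6 : ℤ) ≤ ((p ^ e : ℕ) : ℤ) := by exact_mod_cast he
  linarith

theorem posRoots {r : ℕ} (hr : r < chevG2.nroots) (h : chevG2.nroots / 2 ≤ r) :
    r = 6 ∨ r = 7 ∨ r = 8 ∨ r = 9 ∨ r = 10 ∨ r = 11 := by
  have e : chevG2.nroots = 12 := rfl
  rw [e] at hr h; omega

theorem rv_vals : (rv chevG2 G2.tabs 6 ia = 0 ∧ rv chevG2 G2.tabs 6 ib = 1) ∧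
    (rv chevG2 G2.tabs 7 ia = 1 ∧ rv chevG2 G2.tabs 7 ib = 0) ∧
    (rv chevG2 G2.tabs 8 ia = 1 ∧ rv chevG2 G2.tabs 8 ib = 1) ∧
    (rv chevG2 G2.tabs 9 ia = 2 ∧ rv chevG2 G2.tabs 9 ib = 1) ∧
    (rv chevG2 G2.tabs 10 ia = 3 ∧ rv chevG2 G2.tabs 10 ib = 1) ∧
    (rv chevG2 G2.tabs 11 ia = 3 ∧ rv chevG2 G2.tabs 11 ib = 2) := by decide +kernel

/-- A unipotent element centralising a non-trivial torus element has order dividing `p`. -/
theorem fixed_exponent (p : ℕ) [Fact p.Prime] [CharP F p] (hp : 3 ≤ p) {χ : Fin chevG2.rank → Fˣ} (hχ : χ ≠ 1)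
    {g : GL chevG2.Idx F}
    (hg : g ∈ uGen chevG2 F (FixRoot chevG2 G2.tabs χ (fun r => chevG2.nroots / 2 ≤ r))) : g ^ p = 1 := by
  classical
  obtain ⟨⟨a6, b6⟩, ⟨a7, b7⟩, ⟨a8, b8⟩, ⟨a9, b9⟩, ⟨a10, b10⟩, ⟨a11, b11⟩⟩ := rv_vals
  set x := χ ia with hx
  set y := χ ib with hy
  have hne : ¬ (x = 1 ∧ y = 1) := fun h => hχ (funext fun i => by
    rcases fin_rank i with rfl | rfl
    · exact h.1
    · exact h.2)
  have hclosed : ClosedPos chevG2 G2.tabs (FixRoot chevG2 G2.tabs χ (fun r => chevG2.nroots / 2 ≤ r)) := by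
    refine ⟨fun r _ h => h.1, fun r s v hr hs h1 h2 hv => ⟨(closedPos_pos hcG).2 r s v hr hs h1.1 h2.1 hv, ?_⟩⟩
    obtain ⟨_, i, j, -, -, e⟩ := hv
    rw [e, chi_add, chi_smul, chi_smul, h1.2, h2.2, one_zpow, one_zpow, one_mul]
  have c : ∀ r, r < chevG2.nroots → FixRoot chevG2 G2.tabs χ (fun r => chevG2.nroots / 2 ≤ r) r →
      (r = 6 ∧ y = 1) ∨ (r = 7 ∧ x = 1) ∨ (r = 8 ∧ x * y = 1) ∨ (r = 9 ∧ x ^ 2 * y = 1) ∨
      (r = 10 ∧ x ^ 3 * y = 1) ∨ (r = 11 ∧ x ^ 3 * y ^ 2 = 1) := by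
    intro r hr ⟨hpos, hfix⟩
    rw [chi_rank] at hfix
    rcases posRoots hr hpos with rfl | rfl | rfl | rfl | rfl | rfl
    · left; simpa [a6, b6, hy] using hfix
    · right; left; simpa [a7, b7, hx] using hfix
    · right; right; left; simpa [a8, b8, hx, hy] using hfix
    · right; right; right; left; simpa [a9, b9, hx, hy] using hfix
    · right; right; right; right; left; simpa [a10, b10, hx, hy] using hfix
    · right; right; right; right; right; simpa [a11, b11, hx, hy] using hfix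
  have fin : ∀ (a b d : ℤ), 0 ≤ d → (∀ r, r < chevG2.nroots →
      FixRoot chevG2 G2.tabs χ (fun r => chevG2.nroots / 2 ≤ r) r →
      d ≤ lin a b (rv chevG2 G2.tabs r) ∧ lin a b (rv chevG2 G2.tabs r) < (p : ℤ) * d) → g ^ p = 1 := by
    intro a b d hd h
    have := pow_eq_one_of_grading hcG hcommG p (e := 1) hclosed (lin_add a b) (lin_smul a b) hd
      (fun r hr hP => (h r hr hP).1) (fun r hr hP => by rw [pow_one]; exact (h r hr hP).2) hg
    rwa [pow_one] at this
  have hp' : (3 : ℤ) ≤ (p : ℤ) := by exact_mod_cast hp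
  by_cases h1 : x = 1
  · refine fin 2 (-2) 2 (by norm_num) fun r hr hP => ?_
    rcases c r hr hP with ⟨rfl, e⟩ | ⟨rfl, e⟩ | ⟨rfl, e⟩ | ⟨rfl, e⟩ | ⟨rfl, e⟩ | ⟨rfl, e⟩
    · exact absurd ⟨h1, e⟩ hne
    · rw [lin, a7, b7]; constructor <;> linarith
    · rw [h1, one_mul] at e; exact absurd ⟨h1, e⟩ hne
    · rw [h1, one_pow, one_mul] at e; exact absurd ⟨h1, e⟩ hne
    · rw [h1, one_pow, one_mul] at e; exact absurd ⟨h1, e⟩ hne
    · rw [lin, a11, b11]; constructor <;> linarith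
  by_cases h2 : x * y = 1 ∨ x ^ 2 * y = 1
  · refine fin 0 2 2 (by norm_num) fun r hr hP => ?_
    rcases c r hr hP with ⟨rfl, e⟩ | ⟨rfl, e⟩ | ⟨rfl, e⟩ | ⟨rfl, e⟩ | ⟨rfl, e⟩ | ⟨rfl, e⟩
    · rw [lin, a6, b6]; constructor <;> linarith
    · exact absurd e h1
    · rw [lin, a8, b8]; constructor <;> linarith
    · rw [lin, a9, b9]; constructor <;> linarith
    · rw [lin, a10, b10]; constructor <;> linarith
    · exfalso
      rcases h2 with h | h
      · exact h1 (calc x = x * (x * y) ^ 2 := by rw [h, one_pow, mul_one]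
          _ = x ^ 3 * y ^ 2 := by rw [mul_pow, ← mul_assoc, ← pow_succ']
          _ = 1 := e)
      · exact h1 (calc x = x * (x ^ 3 * y ^ 2) := by rw [e, mul_one]
          _ = (x ^ 2 * y) ^ 2 := by rw [mul_pow, ← pow_mul, ← mul_assoc, ← pow_succ']
          _ = 1 := by rw [h, one_pow])
  refine fin 0 1 1 (by norm_num) fun r hr hP => ?_
  rcases c r hr hP with ⟨rfl, e⟩ | ⟨rfl, e⟩ | ⟨rfl, e⟩ | ⟨rfl, e⟩ | ⟨rfl, e⟩ | ⟨rfl, e⟩
  · rw [lin, a6, b6]; constructor <;> linarith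
  · exact absurd e h1
  · exact absurd (Or.inl e) h2
  · exact absurd (Or.inr e) h2
  · rw [lin, a10, b10]; constructor <;> linarith
  · rw [lin, a11, b11]; constructor <;> linarith

end CfsgLib.G2Orders
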