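import Cfsg.Agent.Lib.G2Orders.Rank2
import Cfsg.Agent.Lib.G2Orders.Grading
import Cfsg.Agent.Lib.ChevField.Main
import Cfsg.Agent.Lib.Chev.Parabolic

/-!
Semisimple elements of the Levi subgroups of semisimple rank one.
-/

set_option autoImplicit false
set_option linter.unusedSectionVars false

namespace CfsgLib.G2Orders

open Cfsg.Lie CfsgLib.Chev CfsgLib.G2Invol CfsgLib.ChevSL2 CfsgLib.SteinbergTwo CfsgLib.ChevField
open Matrix

variable {F : Type*} [Field F]

/-- the homomorphism onto a fundamental rank one subgroup -/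
noncomputable def phiS (i : Fin chevG2.rank) : SpecialLinearGroup (Fin 2) F →* GL chevG2.Idx F :=
  (exists_hom hcG (F := F) (simple_lt hcG i.2)).choose

theorem phiS_img (i : Fin chevG2.rank) (b : Bool) (t : F) :
    phiS i (img F (b, t)) = rootPair chevG2 F (chevG2.simple i) b t :=
  (exists_hom hcG (F := F) (simple_lt hcG i.2)).choose_spec.2 b t

theorem phiS_range (i : Fin chevG2.rank) : (phiS (F := F) i).range =
    chevG2.rootSubgroup F (chevG2.simple i) ⊔ chevG2.rootSubgroup F (chevG2.neg (chevG2.simple i)) :=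
  (exists_hom hcG (F := F) (simple_lt hcG i.2)).choose_spec.1

theorem phiS_mem_levi (i : Fin chevG2.rank) {J : Set ℕ} (hi : (i : ℕ) ∈ J) (A : SpecialLinearGroup (Fin 2) F) :
    phiS i A ∈ chevG2.leviSubgroup F J := by
  have h : phiS i A ∈ (phiS (F := F) i).range := ⟨A, rfl⟩
  rw [phiS_range] at h
  rw [levi_eq hcG]
  refine Subgroup.mem_sup_right ((sup_le ?_ ?_ : _ ≤ uGen chevG2 F (chevG2.InRootSub J)) h)
  · rw [rootSubgroup_eq hcG (simple_lt hcG i.2)]
    exact uGen_mono fun s _ e => e ▸ simple_inRootSub hcG hi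
  · rw [rootSubgroup_eq hcG (neg_lt hcG (simple_lt hcG i.2))]
    exact uGen_mono fun s _ e => e ▸ inRootSub_neg hcG (simple_lt hcG i.2) (simple_inRootSub hcG hi)

theorem phiS_mem_group (i : Fin chevG2.rank) (A : SpecialLinearGroup (Fin 2) F) :
    phiS i A ∈ chevG2.group F := by
  have h : phiS i A ∈ (phiS (F := F) i).range := ⟨A, rfl⟩
  rw [phiS_range, rootSubgroup_eq hcG (simple_lt hcG i.2), rootSubgroup_eq hcG (neg_lt hcG (simple_lt hcG i.2))] at h
  rw [group_eq hcG]
  exact (sup_le (uGen_mono fun _ _ _ => trivial) (uGen_mono fun _ _ _ => trivial) : _ ≤ uGen chevG2 F _) h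

theorem glMap_phiS {E : Type*} [Field E] (ι : F →+* E) (i : Fin chevG2.rank) (A : SpecialLinearGroup (Fin 2) F) :
    glMap chevG2 ι (phiS i A) = phiS i (SpecialLinearGroup.map ι A) := by
  have h : (glMap chevG2 ι).comp (phiS i) = (phiS i).comp (SpecialLinearGroup.map ι) := by
    refine MonoidHom.eq_of_eqOn_dense (closure_img F) ?_
    rintro _ ⟨b, t, rfl⟩
    have e : SpecialLinearGroup.map ι (img F (b, t)) = img E (b, ι t) := by
      ext r s
      cases b <;> fin_cases r <;> fin_cases s <;> simp [coe_img]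
    simp only [MonoidHom.comp_apply, e, phiS_img, rootPair]
    cases b
    · exact glMap_elX hcG ι (neg_lt hcG (simple_lt hcG i.2)) t
    · exact glMap_elX hcG ι (simple_lt hcG i.2) t
  exact DFunLike.congr_fun h A

theorem torus_conj_phiS (i : Fin chevG2.rank) (χ : Fin chevG2.rank → Fˣ) (g : SpecialLinearGroup (Fin 2) F) :
    torus chevG2 G2.tabs F χ * phiS i g * (torus chevG2 G2.tabs F χ)⁻¹ = phiS i (dtwist (χ i) g) := by
  rw [hom_dtwist hcG (simple_lt hcG i.2) (phiS i) (phiS_img i), rv_simple hcG, chi_single, zpow_one]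

theorem phiS_dd (i : Fin chevG2.rank) (s : Fˣ) :
    phiS i (dd s) = torus chevG2 G2.tabs F (corChar chevG2 G2.tabs (chevG2.simple i) s) :=
  hom_dd hcG (simple_lt hcG i.2) (phiS i) (phiS_img i) s

theorem corChar_simple (i j : Fin chevG2.rank) (t : Fˣ) :
    corChar chevG2 G2.tabs (chevG2.simple i) t j = t ^ cm chevG2 i j := by
  show t ^ (∑ k : Fin chevG2.rank, cv G2.tabs (chevG2.simple i) k * cm chevG2 k j) = _
  rw [Finset.sum_eq_single i]
  · rw [cv_simple hcG i.2 i.2, if_pos rfl, one_mul]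
  · intro k _ hk; rw [cv_simple hcG i.2 k.2, if_neg (fun h => hk (Fin.ext h.symm)), zero_mul]
  · simp

theorem cm_self (i : Fin chevG2.rank) : cm chevG2 i i = 2 := by
  revert i; decide +kernel

theorem reflChar_apply (i j : Fin chevG2.rank) (χ : Fin chevG2.rank → Fˣ) :
    reflChar i χ j = χ j * χ i ^ (-cm chevG2 i j) := by
  show chi χ (refl chevG2 i (Pi.single j 1)) = _
  have e : (∑ k, cm chevG2 i k * (Pi.single j (1 : ℤ) : Fin chevG2.rank → ℤ) k) = cm chevG2 i j := by
    rw [Finset.sum_eq_single j] <;> simp +contextual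
  rw [CfsgLib.Chev.refl, e, chi_sub, chi_single, chi_single, zpow_one, div_eq_mul_inv, _root_.zpow_neg]

/-- membership of the Levi subgroup of a proper parabolic subgroup -/
theorem mem_levi_cases {J : Set ℕ} (hJ : ∃ i, i < chevG2.rank ∧ i ∉ J) {g : GL chevG2.Idx F}
    (hg : g ∈ chevG2.leviSubgroup F J) : (∃ χ, g = torus chevG2 G2.tabs F χ) ∨
      ∃ i : Fin chevG2.rank, (i : ℕ) ∈ J ∧ ∃ χ A, g = torus chevG2 G2.tabs F χ * phiS i A := by
  classical
  have hT : chevG2.diagonalSubgroup F ≤ (torus chevG2 G2.tabs F).range := fun x hx => by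
    obtain ⟨c, rfl⟩ := (mem_diagonal hcG).1 hx; exact ⟨_, rfl⟩
  have hsub : ∀ r, chevG2.InRootSub J r → ∃ i : Fin chevG2.rank, (i : ℕ) ∈ J ∧
      (r = chevG2.simple i ∨ r = chevG2.neg (chevG2.simple i)) := by
    intro r hr
    rw [inRootSub_iff hcG] at hr
    obtain ⟨j, hj, hjJ⟩ := hJ
    have key : ∀ (j : Fin chevG2.rank) (r : Fin chevG2.nroots), rv chevG2 G2.tabs r.val j = 0 →
        ∃ i, i ≠ j ∧ rv chevG2 G2.tabs r.val i ≠ 0 ∧ (r.val = chevG2.simple i ∨ r.val = chevG2.neg (chevG2.simple i)) := by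
      decide +kernel
    obtain ⟨i, -, hi, hir⟩ := key ⟨j, hj⟩ ⟨r, hr.1⟩ (hr.2 ⟨j, hj⟩ hjJ)
    exact ⟨i, by_contra fun h => hi (hr.2 i h), hir⟩
  rw [levi_eq hcG] at hg
  by_cases hne : ∃ i : Fin chevG2.rank, (i : ℕ) ∈ J
  · obtain ⟨i, hi⟩ := hne
    right
    refine ⟨i, hi, ?_⟩
    have huniq : ∀ k : Fin chevG2.rank, (k : ℕ) ∈ J → k = i := by
      intro k hk
      obtain ⟨j, hj, hjJ⟩ := hJ
      by_contra h
      have h2 : ∀ a b c : Fin chevG2.rank, a ≠ b → c = a ∨ c = b := by decide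
      rcases h2 k i ⟨j, hj⟩ h with e | e <;> [exact hjJ (by rw [← e] at hk; exact hk); exact hjJ (by rw [← e] at hi; exact hi)]
    have hle : uGen chevG2 F (chevG2.InRootSub J) ≤ (phiS (F := F) i).range := by
      rw [uGen_le_iff]
      intro r hr hP t
      obtain ⟨k, hk, e⟩ := hsub r hP
      obtain rfl := huniq k hk
      rcases e with rfl | rfl
      · exact ⟨img F (true, t), by rw [phiS_img]; rfl⟩
      · exact ⟨img F (false, t), by rw [phiS_img]; rfl⟩
    have hnorm : (torus chevG2 G2.tabs F).range ≤ Subgroup.normalizer ((phiS (F := F) i).range : Set (GL chevG2.Idx F)) := by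
      rintro _ ⟨χ, rfl⟩
      rw [Subgroup.mem_normalizer_iff]
      intro x
      constructor
      · rintro ⟨A, rfl⟩; exact ⟨_, (torus_conj_phiS i χ A).symm⟩
      · rintro ⟨B, hB⟩
        refine ⟨dtwist (χ⁻¹ i) B, ?_⟩
        rw [← torus_conj_phiS, hB, map_inv]
        group
    have h1 : g ∈ (torus chevG2 G2.tabs F).range ⊔ (phiS (F := F) i).range := (sup_le_sup hT hle) hg
    rw [← SetLike.mem_coe, Subgroup.coe_mul_of_left_le_normalizer_right _ _ hnorm] at h1
    obtain ⟨_, ⟨χ, rfl⟩, _, ⟨A, rfl⟩, e⟩ := h1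
    exact ⟨χ, A, e.symm⟩
  · left
    have hb : uGen chevG2 F (chevG2.InRootSub J) = ⊥ := by
      rw [eq_bot_iff, uGen_le_iff]
      intro r _ hP _
      obtain ⟨i, hi, -⟩ := hsub r hP
      exact absurd ⟨i, hi⟩ hne
    rw [hb, sup_bot_eq] at hg
    obtain ⟨χ, e⟩ := hT hg
    exact ⟨χ, e.symm⟩

theorem pow_card_sub_one [Fintype F] (χ : Fin chevG2.rank → Fˣ) : χ ^ (Fintype.card F - 1) = 1 := by
  funext j
  refine Units.ext ?_
  rw [Pi.pow_apply, Units.val_pow_eq_pow_val, FiniteField.pow_card_sub_one_eq_one _ (χ j).ne_zero]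
  rfl

theorem conj_twist {K : Type*} [Field K] (i : Fin chevG2.rank) (χ : Fin chevG2.rank → Kˣ)
    (P B : SpecialLinearGroup (Fin 2) K) (μ : Kˣ) (h : dtwist (χ i)⁻¹ P * B = dd μ * P) :
    phiS i P * (torus chevG2 G2.tabs K χ * phiS i B) * (phiS i P)⁻¹ =
      torus chevG2 G2.tabs K (χ * corChar chevG2 G2.tabs (chevG2.simple i) μ) := by
  have e : phiS i P * torus chevG2 G2.tabs K χ = torus chevG2 G2.tabs K χ * phiS i (dtwist (χ i)⁻¹ P) := by
    rw [mul_inv_eq_iff_eq_mul.1 (torus_conj_phiS i χ (dtwist (χ i)⁻¹ P))]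
    congr 2
    ext r s
    fin_cases r <;> fin_cases s <;> simp [coe_dtwist]
  rw [← mul_assoc, e, mul_assoc (torus chevG2 G2.tabs K χ), ← map_mul, h, map_mul, phiS_dd, map_mul]
  group

/-- A semisimple element of a rank one Levi subgroup lies in a torus, split or twisted by the reflection. -/
theorem levi_torus [Fintype F] {E : Type*} [Field E] [Fintype E] (p : ℕ) [Fact p.Prime] [CharP F p]
    (ι : F →+* E) (σ : E →+* E) (hfix : ∀ a, σ a = a ↔ a ∈ Set.range ι)
    (hσ : ∀ a, σ a = a ^ Fintype.card F) (hE : Fintype.card E = Fintype.card F ^ 2) (i : Fin chevG2.rank)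
    (χ₀ : Fin chevG2.rank → Fˣ) (A : SpecialLinearGroup (Fin 2) F)
    (hp : ¬ p ∣ orderOf (torus chevG2 G2.tabs F χ₀ * phiS i A)) :
    ∃ (P : SpecialLinearGroup (Fin 2) E) (χ : Fin chevG2.rank → Eˣ),
      phiS i P * glMap chevG2 ι (torus chevG2 G2.tabs F χ₀ * phiS i A) * (phiS i P)⁻¹ = torus chevG2 G2.tabs E χ ∧
      (χ ^ (Fintype.card F - 1) = 1 ∨ χ ^ Fintype.card F = reflChar i χ) := by
  classical
  set q := Fintype.card F
  have hmap : ∀ χ' : Fin chevG2.rank → Fˣ, χ' ^ (q - 1) = 1 →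
      (fun j => Units.map ι.toMonoidHom (χ' j)) ^ (q - 1) = 1 := fun χ' h => by
    funext j
    rw [Pi.pow_apply, ← map_pow, ← Pi.pow_apply, h, Pi.one_apply, map_one, Pi.one_apply]
  rcases twist_cases p ι σ hfix hσ hE (χ₀ i) A with ⟨s, hs, hU⟩ | ⟨P, μ, hP⟩ | ⟨P, μ, hμ, hP⟩
  · refine ⟨1, fun j => Units.map ι.toMonoidHom ((χ₀ * corChar chevG2 G2.tabs (chevG2.simple i) s) j), ?_,
      Or.inl (hmap _ (pow_card_sub_one _))⟩
    set χ' := χ₀ * corChar chevG2 G2.tabs (chevG2.simple i) s with hχ'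
    set t := torus chevG2 G2.tabs F χ' with ht
    set v := phiS i (dd s⁻¹ * A) with hv
    have hl : torus chevG2 G2.tabs F χ₀ * phiS i A = t * v := by
      rw [ht, hv, hχ', map_mul, ← phiS_dd, mul_assoc, ← map_mul, ← mul_assoc, dd_mul, mul_inv_cancel, dd_one, one_mul]
    have hcomm : Commute t v := by
      have h := torus_conj_phiS i χ' (dd s⁻¹ * A)
      have e : χ' i = 1 := by
        rw [hχ', Pi.mul_apply, corChar_simple, cm_self, zpow_ofNat]; exact hs
      have e1 : dtwist (1 : Fˣ) (dd s⁻¹ * A) = dd s⁻¹ * A := by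
        ext r s'
        fin_cases r <;> fin_cases s' <;> simp [coe_dtwist, Matrix.mul_apply, Fin.sum_univ_two]
      rw [e, e1, mul_inv_eq_iff_eq_mul] at h
      exact h
    have hvp : v ^ p = 1 := by rw [hv, ← map_pow, hU, map_one]
    have hn : (v ^ (q - 1)) ^ orderOf (t * v) = 1 := by
      have h := pow_orderOf_eq_one (t * v)
      have h' : ((t * v) ^ orderOf (t * v)) ^ (q - 1) = 1 := by rw [h, one_pow]
      rw [← pow_mul, mul_comm, pow_mul, hcomm.mul_pow, ← map_pow, pow_card_sub_one χ', map_one, one_mul] at h'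
      exact h'
    have hv1 : v = 1 := by
      have hco : Nat.Coprime p (orderOf (t * v)) := (Fact.out : p.Prime).coprime_iff_not_dvd.2 (hl ▸ hp)
      have h1 : v ^ (q - 1) = 1 := orderOf_eq_one_iff.1 (Nat.eq_one_of_dvd_coprimes hco
        (orderOf_dvd_of_pow_eq_one (by rw [← pow_mul, mul_comm, pow_mul, hvp, one_pow]))
        (orderOf_dvd_of_pow_eq_one hn))
      have hco2 : Nat.Coprime p (q - 1) := by
        refine (Fact.out : p.Prime).coprime_iff_not_dvd.2 fun h => ?_
        obtain ⟨n, -, hn⟩ := FiniteField.card F p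
        have hpq : p ∣ q := by show p ∣ Fintype.card F; rw [hn]; exact dvd_pow_self p n.pos.ne'
        have hq : 1 < q := Fintype.one_lt_card
        have h3 := Nat.dvd_sub hpq h
        rw [show q - (q - 1) = 1 by omega] at h3
        exact (Fact.out : p.Prime).not_dvd_one h3
      exact orderOf_eq_one_iff.1 (Nat.eq_one_of_dvd_coprimes hco2 (orderOf_dvd_of_pow_eq_one hvp)
        (orderOf_dvd_of_pow_eq_one h1))
    rw [hl, hv1, mul_one, map_one, one_mul, inv_one, mul_one, ht, glMap_torus]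
  · refine ⟨SpecialLinearGroup.map ι P,
      fun j => Units.map ι.toMonoidHom ((χ₀ * corChar chevG2 G2.tabs (chevG2.simple i) μ) j), ?_,
      Or.inl (hmap _ (pow_card_sub_one _))⟩
    rw [← glMap_phiS, ← map_inv, ← map_mul, ← map_mul, conj_twist i χ₀ P A μ hP, glMap_torus]
  · set χE : Fin chevG2.rank → Eˣ := fun j => Units.map ι.toMonoidHom (χ₀ j) with hχE
    refine ⟨P, χE * corChar chevG2 G2.tabs (chevG2.simple i) μ, ?_, Or.inr ?_⟩
    · rw [map_mul, glMap_torus, glMap_phiS]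
      exact conj_twist i χE P _ μ hP
    · have hq : ∀ j, χE j ^ q = χE j := fun j => Units.ext (by
        rw [Units.val_pow_eq_pow_val]
        show ι (χ₀ j : F) ^ q = _
        rw [← map_pow, FiniteField.pow_card]
        rfl)
      have hμq : μ ^ q = (χE i * μ)⁻¹ := by
        refine eq_inv_of_mul_eq_one_left (Units.ext ?_)
        rw [Units.val_mul, Units.val_pow_eq_pow_val, ← hσ, Units.val_one]
        exact hμ
      funext j
      rw [Pi.pow_apply, reflChar_apply, Pi.mul_apply, Pi.mul_apply, corChar_simple, corChar_simple, cm_self,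
        mul_pow, hq, ← zpow_natCast (μ ^ cm chevG2 i j), ← _root_.zpow_mul, mul_comm _ (q : ℤ), _root_.zpow_mul, zpow_natCast,
        hμq, _root_.inv_zpow', zpow_ofNat]
      generalize cm chevG2 i j = a
      rw [mul_zpow, mul_zpow, ← zpow_natCast μ 2, ← _root_.zpow_mul, mul_assoc, mul_left_comm (μ ^ a), ← _root_.zpow_add]
      congr 2
      push_cast
      congr 1
      ring

end CfsgLib.G2Orders
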