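import Cfsg.Agent.Lib.G2Orders.Exist
import Cfsg.Agent.Lib.ChevAut.Sylow

/-!
Every element order of G₂ in odd characteristic divides one of the maximal ones.
-/

set_option autoImplicit false
set_option linter.unusedSectionVars false

namespace CfsgLib.G2Orders

open Cfsg.Lie CfsgLib.Chev CfsgLib.G2Invol

variable {F : Type*} [Field F]

/-- exponent of the unipotent elements -/
theorem unipotent_exponent [Fintype F] (p : ℕ) [Fact p.Prime] [CharP F p] {e : ℕ} (he : 6 ≤ p ^ e)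
    {x : ↥(chevG2.group F)} (hx : ∃ k, orderOf x = p ^ k) : x ^ p ^ e = 1 := by
  classical
  obtain ⟨P, hP⟩ := ChevAut.sylow_pos hcG hcommG (F := F) p
  obtain ⟨k, hk⟩ := hx
  have hxp : IsPGroup p ↥(Subgroup.zpowers x) := IsPGroup.of_card (n := k) (by rw [Nat.card_zpowers, hk])
  obtain ⟨R, hR⟩ := hxp.exists_le_sylow
  obtain ⟨g, hg⟩ := MulAction.exists_smul_eq ↥(chevG2.group F) R P
  have h1 : g * x * g⁻¹ ∈ (P : Subgroup ↥(chevG2.group F)) := by
    rw [← hg, Sylow.coe_subgroup_smul]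
    exact Subgroup.smul_mem_pointwise_smul _ (MulAut.conj g) _ (hR (Subgroup.mem_zpowers x))
  rw [hP, Subgroup.mem_subgroupOf] at h1
  have h2 : (MulAut.conj g x) ^ p ^ e = 1 := Subtype.ext (pos_exponent p he h1)
  rw [← map_pow] at h2
  exact (MulAut.conj g).injective (h2.trans (map_one _).symm)

/-- The element orders. -/
theorem orders_bound [Fintype F] (p : ℕ) [Fact p.Prime] [CharP F p] (hp2 : p ≠ 2) (g : ↥(chevG2.group F)) :
    orderOf g ∣ p * (Fintype.card F + 1) ∨ orderOf g ∣ p * (Fintype.card F - 1) ∨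
      orderOf g ∣ Fintype.card F ^ 2 - 1 ∨ orderOf g ∣ Fintype.card F ^ 2 + Fintype.card F + 1 ∨
      orderOf g ∣ Fintype.card F ^ 2 - Fintype.card F + 1 ∨ ((p = 3 ∨ p = 5) ∧ orderOf g ∣ p ^ 2) := by
  classical
  have hpp := (Fact.out : p.Prime)
  have hp3 : 3 ≤ p := by have := hpp.two_le; omega
  by_cases hpn : p ∣ orderOf g
  swap
  · rcases semisimple p hpn with h | h | h
    · exact Or.inr (Or.inr (Or.inr (Or.inl h)))
    · exact Or.inr (Or.inr (Or.inr (Or.inr (Or.inl h))))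
    · exact Or.inr (Or.inr (Or.inl h))
  have h0 : orderOf g ≠ 0 := (orderOf_pos g).ne'
  set e := (orderOf g).factorization p
  set m := orderOf g / p ^ e
  have hdecomp : p ^ e * m = orderOf g := Nat.mul_div_cancel' (Nat.ordProj_dvd _ _)
  have hm : ¬ p ∣ m := Nat.not_dvd_ordCompl hpp h0
  have he : 0 < e := hpp.factorization_pos_of_dvd h0 hpn
  have hm0 : 0 < m := Nat.pos_of_mul_pos_left (hdecomp ▸ orderOf_pos g)
  set u := g ^ m with hu
  set s := g ^ p ^ e with hs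
  have hou : orderOf u = p ^ e := by
    rw [hu, orderOf_pow_of_dvd hm0.ne' ⟨p ^ e, by rw [mul_comm, hdecomp]⟩, ← hdecomp,
      Nat.mul_div_cancel _ hm0]
  have hos : orderOf s = m := by
    rw [hs, orderOf_pow_of_dvd (pow_ne_zero _ hpp.ne_zero) ⟨m, hdecomp.symm⟩, ← hdecomp,
      Nat.mul_div_cancel_left _ (pow_pos hpp.pos _)]
  by_cases hm1 : m = 1
  · have hgp : ∃ k, orderOf g = p ^ k := ⟨e, by rw [← hdecomp, hm1, mul_one]⟩
    by_cases h35 : p = 3 ∨ p = 5
    · refine Or.inr (Or.inr (Or.inr (Or.inr (Or.inr ⟨h35, ?_⟩))))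
      exact orderOf_dvd_of_pow_eq_one (unipotent_exponent p (by nlinarith) hgp)
    · refine Or.inl ((orderOf_dvd_of_pow_eq_one ?_).trans (dvd_mul_right p _))
      have h7 : 6 ≤ p ^ 1 := by
        rw [pow_one]
        push Not at h35
        by_contra h
        have : p = 4 := by omega
        rw [this] at hpp; exact absurd hpp (by norm_num)
      simpa using unipotent_exponent p h7 hgp
  have hs1 : (s : GL chevG2.Idx F) ≠ 1 := fun h => hm1 (by
    rw [← hos, orderOf_eq_one_iff]; exact Subtype.ext h)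
  have hu1 : (u : GL chevG2.Idx F) ≠ 1 := fun h => by
    have h1 : orderOf u = 1 := orderOf_eq_one_iff.2 (Subtype.ext h)
    rw [hou, Nat.pow_eq_one] at h1
    rcases h1 with h1 | h1
    · exact hpp.ne_one h1
    · omega
  obtain ⟨h1, h2⟩ := mixed p hp3 s.2 u.2 (by rw [← Subgroup.coe_mul, ← Subgroup.coe_mul, hu, hs, ← pow_add, ← pow_add, add_comm])
    hs1 hu1 (by rw [Subgroup.orderOf_coe, hos]; exact hm) ⟨e, by rw [Subgroup.orderOf_coe, hou]⟩
  have he1 : p ^ e ∣ p := by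
    rw [← hou]
    exact orderOf_dvd_of_pow_eq_one (Subtype.ext (by rw [SubmonoidClass.coe_pow]; exact h1))
  rw [Subgroup.orderOf_coe, hos] at h2
  rcases h2 with h | h
  · exact Or.inr (Or.inl (hdecomp ▸ Nat.mul_dvd_mul he1 h))
  · exact Or.inl (hdecomp ▸ Nat.mul_dvd_mul he1 h)

/-- none of the listed orders divides another -/
theorem antichain {p a : ℕ} (hp : p.Prime) (hp2 : p ≠ 2) (ha : 1 ≤ a) (hq : 5 ≤ p ^ a) {y z : ℕ}
    (hy : y ∈ ({p * (p ^ a + 1), p * (p ^ a - 1), p ^ (2 * a) - 1, p ^ (2 * a) + p ^ a + 1,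
      p ^ (2 * a) - p ^ a + 1} : Set ℕ) ∪ (if p = 3 ∨ p = 5 then ({p ^ 2} : Set ℕ) else ∅))
    (hz : z ∈ ({p * (p ^ a + 1), p * (p ^ a - 1), p ^ (2 * a) - 1, p ^ (2 * a) + p ^ a + 1,
      p ^ (2 * a) - p ^ a + 1} : Set ℕ) ∪ (if p = 3 ∨ p = 5 then ({p ^ 2} : Set ℕ) else ∅))
    (hd : y ∣ z) : y = z := by
  rw [show p ^ (2 * a) = (p ^ a) ^ 2 by rw [← pow_mul, mul_comm]] at hy hz
  set Q := p ^ a with hQ
  have hpQ : p ∣ Q := dvd_pow_self p (by omega)
  have hpQ2 : p ∣ Q ^ 2 := hpQ.trans (dvd_pow_self Q two_ne_zero)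
  have hpl : p ≤ Q := Nat.le_of_dvd (by omega) hpQ
  have hp3 : 3 ≤ p := by have := hp.two_le; omega
  have hQ2 : 5 * Q ≤ Q ^ 2 := by rw [sq]; exact Nat.mul_le_mul_right Q hq
  have n1 : ¬ p ∣ Q + 1 := fun h => hp.not_dvd_one ((Nat.dvd_add_right hpQ).1 h)
  have n2 : ¬ p ∣ Q - 1 := fun h => hp.not_dvd_one (by
    have := Nat.dvd_sub hpQ h; rwa [show Q - (Q - 1) = 1 by omega] at this)
  have n3 : ¬ p ∣ Q ^ 2 - 1 := fun h => hp.not_dvd_one (by
    have := Nat.dvd_sub hpQ2 h; rwa [show Q ^ 2 - (Q ^ 2 - 1) = 1 by omega] at this)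
  have n4 : ¬ p ∣ Q ^ 2 + Q + 1 := fun h => hp.not_dvd_one ((Nat.dvd_add_right (hpQ2.add hpQ)).1 h)
  have n5 : ¬ p ∣ Q ^ 2 - Q + 1 := fun h => hp.not_dvd_one ((Nat.dvd_add_right (Nat.dvd_sub hpQ2 hpQ)).1 h)
  -- a number prime to `p` dividing `p * k` or `p ^ 2`
  have cop : ∀ {x k : ℕ}, ¬ p ∣ x → x ∣ p * k → x ∣ k := fun hx h =>
    ((hp.coprime_iff_not_dvd.2 hx).symm).dvd_of_dvd_mul_left h
  have cop2 : ∀ {x : ℕ}, ¬ p ∣ x → x ∣ p ^ 2 → x = 1 := fun hx h =>
    Nat.eq_one_of_dvd_coprimes ((hp.coprime_iff_not_dvd.2 hx).pow_left 2) h dvd_rfl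
  have small : ∀ {x k : ℕ}, x ∣ k → 0 < k → k < x → False := fun h h1 h2 => by
    have := Nat.le_of_dvd h1 h; omega
  have subdvd : ∀ {x k l : ℕ}, x ∣ k → x ∣ l → x ∣ k - l := fun h h' => Nat.dvd_sub h h'
  have hmem : ∀ {w : ℕ}, w ∈ ({p * (Q + 1), p * (Q - 1), Q ^ 2 - 1, Q ^ 2 + Q + 1, Q ^ 2 - Q + 1} : Set ℕ) ∪
      (if p = 3 ∨ p = 5 then ({p ^ 2} : Set ℕ) else ∅) →
      w = p * (Q + 1) ∨ w = p * (Q - 1) ∨ w = Q ^ 2 - 1 ∨ w = Q ^ 2 + Q + 1 ∨ w = Q ^ 2 - Q + 1 ∨ w = p * p := by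
    intro w hw
    rcases hw with hw | hw
    · simp only [Set.mem_insert_iff, Set.mem_singleton_iff] at hw
      tauto
    · split at hw
      · exact Or.inr (Or.inr (Or.inr (Or.inr (Or.inr (by rw [← sq]; exact hw)))))
      · exact hw.elim
  rcases hmem hy with rfl | rfl | rfl | rfl | rfl | rfl <;> rcases hmem hz with rfl | rfl | rfl | rfl | rfl | rfl
  · rfl
  · exact (small (Nat.dvd_of_mul_dvd_mul_left hp.pos hd) (by omega) (by omega)).elim
  · exact absurd ((dvd_mul_right p _).trans hd) n3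
  · exact absurd ((dvd_mul_right p _).trans hd) n4
  · exact absurd ((dvd_mul_right p _).trans hd) n5
  · exact (small (Nat.dvd_of_mul_dvd_mul_left hp.pos hd) hp.pos (by omega)).elim
  · have h := subdvd (Nat.dvd_of_mul_dvd_mul_left hp.pos hd) (dvd_refl (Q - 1))
    rw [show Q + 1 - (Q - 1) = 2 by omega] at h
    exact (small h two_pos (by omega)).elim
  · rfl
  · exact absurd ((dvd_mul_right p _).trans hd) n3
  · exact absurd ((dvd_mul_right p _).trans hd) n4
  · exact absurd ((dvd_mul_right p _).trans hd) n5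
  · have h := cop n2 (show Q - 1 ∣ p * 1 by rw [mul_one]; exact Nat.dvd_of_mul_dvd_mul_left hp.pos hd)
    exact (small h one_pos (by omega)).elim
  · exact (small (cop n3 hd) (by omega) (by omega)).elim
  · exact (small (cop n3 hd) (by omega) (by omega)).elim
  · rfl
  · have h := subdvd hd (dvd_refl (Q ^ 2 - 1))
    rw [show Q ^ 2 + Q + 1 - (Q ^ 2 - 1) = Q + 2 by omega] at h
    exact (small h (by omega) (by omega)).elim
  · exact (small hd (by omega) (by omega)).elim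
  · have := cop2 n3 (by rw [sq p]; exact hd); omega
  · exact (small (cop n4 hd) (by omega) (by omega)).elim
  · exact (small (cop n4 hd) (by omega) (by omega)).elim
  · exact (small hd (by omega) (by omega)).elim
  · rfl
  · exact (small hd (by omega) (by omega)).elim
  · have := cop2 n4 (by rw [sq p]; exact hd); omega
  · exact (small (cop n5 hd) (by omega) (by omega)).elim
  · exact (small (cop n5 hd) (by omega) (by omega)).elim
  · have h := subdvd hd (dvd_refl (Q ^ 2 - Q + 1))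
    rw [show Q ^ 2 - 1 - (Q ^ 2 - Q + 1) = Q - 2 by omega] at h
    exact (small h (by omega) (by omega)).elim
  · have h := subdvd hd (dvd_refl (Q ^ 2 - Q + 1))
    rw [show Q ^ 2 + Q + 1 - (Q ^ 2 - Q + 1) = 2 * Q by omega] at h
    exact (small h (by omega) (by omega)).elim
  · rfl
  · have := cop2 n5 (by rw [sq p]; exact hd); omega
  · exact absurd (Nat.dvd_of_mul_dvd_mul_left hp.pos hd) n1
  · exact absurd (Nat.dvd_of_mul_dvd_mul_left hp.pos hd) n2
  · exact absurd ((dvd_mul_right p _).trans hd) n3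
  · exact absurd ((dvd_mul_right p _).trans hd) n4
  · exact absurd ((dvd_mul_right p _).trans hd) n5
  · rfl

end CfsgLib.G2Orders
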