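import Cfsg.Agent.Lib.G2Orders.Levi
import Cfsg.Agent.Lib.ChevCent.Optimal
import Cfsg.Agent.Lib.ChevCent.EllipticTorus
import Cfsg.Agent.Lib.OddChar.Coprime

/-!
Commuting semisimple and unipotent elements of G₂ in odd characteristic.
-/

set_option autoImplicit false
set_option linter.unusedSectionVars false

namespace CfsgLib.G2Orders

open Cfsg.Lie CfsgLib.Chev CfsgLib.G2Invol CfsgLib.ChevField CfsgLib.ChevTorusCent

theorem cm_vals : cm chevG2 ia ia = 2 ∧ cm chevG2 ia ib = -3 ∧ cm chevG2 ib ia = -1 ∧ cm chevG2 ib ib = 2 := by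
  decide +kernel

theorem refl_vals {K : Type*} [Field K] (χ : Fin chevG2.rank → Kˣ) :
    (reflChar ia χ ia = (χ ia)⁻¹ ∧ reflChar ia χ ib = χ ib * χ ia ^ 3) ∧
    (reflChar ib χ ia = χ ia * χ ib ∧ reflChar ib χ ib = (χ ib)⁻¹) := by
  obtain ⟨e1, e2, e3, e4⟩ := cm_vals
  refine ⟨⟨?_, ?_⟩, ⟨?_, ?_⟩⟩ <;> rw [reflChar_apply]
  · rw [e1, _root_.zpow_neg, zpow_ofNat, sq, mul_inv_rev, mul_inv_cancel_left]
  · rw [e2, neg_neg, zpow_ofNat]
  · rw [e3, neg_neg, zpow_one]
  · rw [e4, _root_.zpow_neg, zpow_ofNat, sq, mul_inv_rev, mul_inv_cancel_left]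

/-- Relations satisfied by a twisted torus element fixing a root outside the Levi subgroup. -/
theorem twisted_fix {K : Type*} [Field K] {q : ℕ} {χ : Fin chevG2.rank → Kˣ} {J : Set ℕ} {i : Fin chevG2.rank}
    (hi : (i : ℕ) ∈ J) (hχ : χ ^ q = reflChar i χ) {r : ℕ} (hr : r < chevG2.nroots)
    (hfix : FixRoot chevG2 G2.tabs χ (OutRoot chevG2 J) r) : χ ^ 3 = 1 ∨ χ ^ (q + 1) = 1 := by
  obtain ⟨hout, hone⟩ := hfix
  rw [outRoot_iff hcG hr] at hout
  obtain ⟨hpos, j, hj, hjr⟩ := hout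
  have hji : j ≠ i := fun e => hj (e ▸ hi)
  obtain ⟨⟨a6, b6⟩, ⟨a7, b7⟩, ⟨a8, b8⟩, ⟨a9, b9⟩, ⟨a10, b10⟩, ⟨a11, b11⟩⟩ := rv_vals
  have hq := fun k => congrFun hχ k
  have e3 : χ ia ^ 3 = 1 → χ ib ^ 3 = 1 → χ ^ 3 = 1 ∨ χ ^ (q + 1) = 1 := fun h h' => Or.inl (funext fun k => by
    rcases fin_rank k with rfl | rfl
    · exact h
    · exact h')
  rw [chi_rank] at hone
  obtain ⟨⟨u1, u2⟩, ⟨w1, w2⟩⟩ := refl_vals χ
  rcases fin_rank i with rfl | rfl
  · have hja : j = ib := (fin_rank j).resolve_left hji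
    subst hja
    have qa : χ ia ^ q = (χ ia)⁻¹ := (hq ia).trans u1
    have qb : χ ib ^ q = χ ib * χ ia ^ 3 := (hq ib).trans u2
    set x := χ ia
    set y := χ ib
    rcases posRoots hr hpos with rfl | rfl | rfl | rfl | rfl | rfl
    · have h : y = 1 := by simpa [a6, b6] using hone
      rw [h, one_pow, one_mul] at qb
      exact e3 qb.symm (by rw [h, one_pow])
    · exact absurd b7 hjr
    · have h : x * y = 1 := by simpa [a8, b8] using hone
      have h' : x⁻¹ * (y * x ^ 3) = 1 := by rw [← qa, ← qb, ← mul_pow, h, one_pow]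
      have hx : x = 1 := by
        rw [show x⁻¹ * (y * x ^ 3) = x * y * x * (x⁻¹ * x) by
          rw [pow_succ x 2, sq]; simp only [mul_comm, mul_left_comm, mul_assoc], h, inv_mul_cancel, one_mul,
          mul_one] at h'
        exact h'
      rw [hx, one_mul] at h
      exact e3 (by rw [hx, one_pow]) (by rw [h, one_pow])
    · have h : x ^ 2 * y = 1 := by simpa [a9, b9] using hone
      have h' : (x⁻¹) ^ 2 * (y * x ^ 3) = 1 := by rw [← qa, ← qb, ← pow_mul, mul_comm q, pow_mul, ← mul_pow, h, one_pow]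
      have hxy : x * y = 1 := by
        rw [← h']
        rw [show (x⁻¹) ^ 2 * (y * x ^ 3) = (x⁻¹) ^ 2 * x ^ 2 * (x * y) by rw [pow_succ x 2]; ac_rfl, ← mul_pow,
          inv_mul_cancel, one_pow, one_mul]
      have hx : x = 1 := by rw [sq, mul_assoc, hxy, mul_one] at h; exact h
      rw [hx, one_mul] at hxy
      exact e3 (by rw [hx, one_pow]) (by rw [hxy, one_pow])
    · have h : x ^ 3 * y = 1 := by simpa [a10, b10] using hone
      have h' : (x⁻¹) ^ 3 * (y * x ^ 3) = 1 := by rw [← qa, ← qb, ← pow_mul, mul_comm q, pow_mul, ← mul_pow, h, one_pow]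
      rw [show (x⁻¹) ^ 3 * (y * x ^ 3) = (x⁻¹ * x) ^ 3 * y by rw [mul_pow]; ac_rfl, inv_mul_cancel, one_pow,
        one_mul] at h'
      rw [h', mul_one] at h
      exact e3 h (by rw [h', one_pow])
    · have h : x ^ 3 * y ^ 2 = 1 := by simpa [a11, b11] using hone
      refine Or.inr (funext fun k => ?_)
      rcases fin_rank k with rfl | rfl
      · rw [Pi.pow_apply, pow_succ, qa, inv_mul_cancel]; rfl
      · rw [Pi.pow_apply, pow_succ, qb, show y * x ^ 3 * y = x ^ 3 * y ^ 2 by rw [sq]; ac_rfl, h]; rfl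
  · have hja : j = ia := (fin_rank j).resolve_right hji
    subst hja
    have qa : χ ia ^ q = χ ia * χ ib := (hq ia).trans w1
    have qb : χ ib ^ q = (χ ib)⁻¹ := (hq ib).trans w2
    set x := χ ia
    set y := χ ib
    rcases posRoots hr hpos with rfl | rfl | rfl | rfl | rfl | rfl
    · exact absurd a6 hjr
    · have h : x = 1 := by simpa [a7, b7] using hone
      rw [h, one_pow, one_mul] at qa
      exact e3 (by rw [h, one_pow]) (by rw [← qa, one_pow])
    · have h : x * y = 1 := by simpa [a8, b8] using hone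
      have hx : x = 1 := by
        have h' : x * y * y⁻¹ = 1 := by rw [← qb, ← qa, ← mul_pow, h, one_pow]
        rwa [mul_inv_cancel_right] at h'
      rw [hx, one_mul] at h
      exact e3 (by rw [hx, one_pow]) (by rw [h, one_pow])
    · have h : x ^ 2 * y = 1 := by simpa [a9, b9] using hone
      refine Or.inr (funext fun k => ?_)
      rcases fin_rank k with rfl | rfl
      · rw [Pi.pow_apply, pow_succ, qa, show x * y * x = x ^ 2 * y by rw [sq]; ac_rfl, h]; rfl
      · rw [Pi.pow_apply, pow_succ, qb, inv_mul_cancel]; rfl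
    · have h : x ^ 3 * y = 1 := by simpa [a10, b10] using hone
      have h' : (x * y) ^ 3 * y⁻¹ = 1 := by rw [← qb, ← qa, ← pow_mul, mul_comm q, pow_mul, ← mul_pow, h, one_pow]
      have hy : y = 1 := by
        rw [show (x * y) ^ 3 * y⁻¹ = x ^ 3 * y * y * (y * y⁻¹) by rw [mul_pow, pow_succ y 2, sq]; ac_rfl, h,
          one_mul, mul_inv_cancel, mul_one] at h'
        exact h'
      rw [hy, mul_one] at h
      exact e3 h (by rw [hy, one_pow])
    · have h : x ^ 3 * y ^ 2 = 1 := by simpa [a11, b11] using hone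
      have h' : (x * y) ^ 3 * (y⁻¹) ^ 2 = 1 := by
        rw [← qb, ← qa, ← pow_mul, mul_comm q, pow_mul, ← pow_mul y, mul_comm q 2, pow_mul, ← mul_pow, h, one_pow]
      have h'' : x ^ 3 * y = 1 := by
        rw [show (x * y) ^ 3 * (y⁻¹) ^ 2 = x ^ 3 * y * (y * y⁻¹) ^ 2 by
          rw [mul_pow, mul_pow, pow_succ y 2]; simp only [mul_comm, mul_left_comm, mul_assoc], mul_inv_cancel, one_pow, mul_one] at h'
        exact h'
      have hy : y = 1 := by rw [sq, ← mul_assoc, h'', one_mul] at h; exact h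
      rw [hy, mul_one] at h''
      exact e3 h'' (by rw [hy, one_pow])

variable {F : Type*} [Field F]

/-- a torus element corresponding to a semisimple element of a Levi subgroup -/
theorem levi_cases [Fintype F] {E : Type*} [Field E] [Fintype E] (p : ℕ) [Fact p.Prime] [CharP F p]
    (ι : F →+* E) (σ : E →+* E) (hfix : ∀ a, σ a = a ↔ a ∈ Set.range ι)
    (hσ : ∀ a, σ a = a ^ Fintype.card F) (hE : Fintype.card E = Fintype.card F ^ 2) {J : Set ℕ}
    (hJ : ∃ i, i < chevG2.rank ∧ i ∉ J) {l : GL chevG2.Idx F} (hl : l ∈ chevG2.leviSubgroup F J)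
    (hp : ¬ p ∣ orderOf l) :
    ∃ (w : GL chevG2.Idx E) (χ : Fin chevG2.rank → Eˣ), w ∈ chevG2.leviSubgroup E J ∧
      w * glMap chevG2 ι l * w⁻¹ = torus chevG2 G2.tabs E χ ∧
      (χ ^ (Fintype.card F - 1) = 1 ∨ ∃ i : Fin chevG2.rank, (i : ℕ) ∈ J ∧ χ ^ Fintype.card F = reflChar i χ) := by
  rcases mem_levi_cases hJ hl with ⟨χ₀, rfl⟩ | ⟨i, hi, χ₀, A, rfl⟩
  · refine ⟨1, fun j => Units.map ι.toMonoidHom (χ₀ j), one_mem _, by rw [one_mul, inv_one, mul_one, glMap_torus],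
      Or.inl (funext fun j => ?_)⟩
    rw [Pi.pow_apply, ← map_pow, ← Pi.pow_apply, pow_card_sub_one, Pi.one_apply, map_one, Pi.one_apply]
  · obtain ⟨P, χ, h1, h2'⟩ := levi_torus p ι σ hfix hσ hE i χ₀ A hp
    exact ⟨phiS i P, χ, phiS_mem_levi i hi P, h1, h2'.imp id fun h => ⟨i, hi, h⟩⟩

theorem pow_coset {G : Type*} [Group G] {H : Subgroup G} {v l : G} (hv : v ∈ H)
    (hl : l ∈ Subgroup.normalizer (H : Set G)) : ∀ n : ℕ, (v * l) ^ n * (l ^ n)⁻¹ ∈ H := by
  intro n
  induction n with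
  | zero => simp
  | succ n ih =>
    rw [show (v * l) ^ (n + 1) * (l ^ (n + 1))⁻¹ = ((v * l) ^ n * (l ^ n)⁻¹) * (l ^ n * v * (l ^ n)⁻¹) by
      rw [pow_succ, pow_succ]; group]
    exact mul_mem ih ((Subgroup.mem_normalizer_iff.1 (pow_mem hl n) v).1 hv)

/-- A semisimple element centralising a nontrivial unipotent one, moved into a torus over the quadratic extension. -/
theorem mixed_core [Fintype F] (p : ℕ) [Fact p.Prime] [CharP F p] {s u : GL chevG2.Idx F}
    (hs : s ∈ chevG2.group F) (hu : u ∈ chevG2.group F) (hsu : s * u = u * s) (hs1 : s ≠ 1) (hu1 : u ≠ 1)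
    (hsp : ¬ p ∣ orderOf s) (hup : ∃ k, orderOf u = p ^ k) :
    ∃ (E : Type) (_ : Field E) (_ : Fintype E) (χ : Fin chevG2.rank → Eˣ) (u3 : GL chevG2.Idx E),
      CharP E p ∧ χ ≠ 1 ∧
      u3 ∈ uGen chevG2 E (FixRoot chevG2 G2.tabs χ (fun r => chevG2.nroots / 2 ≤ r)) ∧
      orderOf u3 = orderOf u ∧ (∀ m, χ ^ m = 1 → orderOf s ∣ m) ∧
      (orderOf s ∣ Fintype.card F - 1 ∨ orderOf s ∣ Fintype.card F + 1) := by
  classical
  have hpp := (Fact.out : p.Prime)
  obtain ⟨k, hk⟩ := hup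
  have hR : IsPGroup p ↥(Subgroup.zpowers u) := IsPGroup.of_card (n := k) (by rw [Nat.card_zpowers, hk])
  have hne : Subgroup.zpowers u ≠ ⊥ := by rwa [Ne, Subgroup.zpowers_eq_bot]
  obtain ⟨g, hg, J, hJ, hN, hU⟩ := ChevCent.borel_tits hcG hcommG p (Subgroup.zpowers_le.2 hu) hR hne
  have hsN : s ∈ Subgroup.normalizer (Subgroup.zpowers u : Set (GL chevG2.Idx F)) ⊓ chevG2.group F := by
    refine ⟨?_, hs⟩
    have hc : Commute s u := hsu
    show s ∈ Subgroup.normalizer _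
    rw [Subgroup.mem_normalizer_iff]
    intro x
    constructor
    · intro hx
      obtain ⟨z, rfl⟩ := Subgroup.mem_zpowers_iff.1 hx
      rw [(hc.zpow_right z).eq, mul_inv_cancel_right]
      exact hx
    · intro hx
      obtain ⟨z, hz⟩ := Subgroup.mem_zpowers_iff.1 hx
      have : x = s⁻¹ * (u ^ z) * s := by rw [hz]; group
      rw [this, (hc.inv_left.zpow_right z).eq, inv_mul_cancel_right]
      exact Subgroup.zpow_mem_zpowers u z
  obtain ⟨s1, hs1P, hs1e⟩ := hN hsN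
  obtain ⟨u1, hu1U, hu1e⟩ := hU (Subgroup.mem_zpowers u)
  simp only [MulEquiv.coe_toMonoidHom, MulAut.conj_apply] at hs1e hu1e
  set U := uGen chevG2 F (OutRoot chevG2 J) with hUdef
  rw [SetLike.mem_coe, unipotentRadical_eq hcG, ← hUdef] at hu1U
  obtain ⟨-, hdec, -⟩ := levi_decomposition hcG (F := F) hcommG J
  rw [unipotentRadical_eq hcG, ← hUdef] at hdec
  have hLN : chevG2.leviSubgroup F J ≤ Subgroup.normalizer (U : Set (GL chevG2.Idx F)) :=
    (hdec ▸ le_sup_right : _ ≤ chevG2.parabolicSubgroup F J).trans (parabolic_normalizes_radical hcG hcommG J)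
  rw [SetLike.mem_coe, ← hdec, ← SetLike.mem_coe, Subgroup.coe_mul_of_right_le_normalizer_left _ _ hLN] at hs1P
  obtain ⟨v, hv, l, hl, rfl⟩ := hs1P
  change g * (v * l) * g⁻¹ = s at hs1e
  have hUpos : ∀ x ∈ U, x ^ p ^ 3 = 1 := fun x hx =>
    pos_exponent p (le_trans (by norm_num) (Nat.pow_le_pow_left hpp.two_le 3)) (uGen_mono (fun r _ h => h.1) hx)
  have hUp : IsPGroup p ↥U := fun x => ⟨3, Subtype.ext (by rw [SubmonoidClass.coe_pow]; exact hUpos x.1 x.2)⟩
  have hos : orderOf (v * l) = orderOf s := by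
    rw [← hs1e]; exact (orderOf_injective (MulAut.conj g).toMonoidHom (MulAut.conj g).injective _).symm
  have hlord : orderOf l ∣ orderOf s := by
    refine orderOf_dvd_of_pow_eq_one ?_
    have h1 := pow_coset hv (hLN hl) (orderOf s)
    rw [← hos, pow_orderOf_eq_one, one_mul, hos, Subgroup.inv_mem_iff] at h1
    have h2 : l ^ orderOf s ∈ chevG2.unipotentRadical F J ⊓ chevG2.leviSubgroup F J :=
      ⟨by rw [SetLike.mem_coe, unipotentRadical_eq hcG]; exact h1, pow_mem hl _⟩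
    rwa [radical_inf_levi hcG, Subgroup.mem_bot] at h2
  have hlp : ¬ p ∣ orderOf l := fun h => hsp (h.trans hlord)
  obtain ⟨n, hn⟩ := IsPGroup.iff_card.1 hUp
  obtain ⟨x, hx, c, hcU, hcl, hxc⟩ := OddChar.exists_conj_centralizer_coset U l (hLN hl)
    (by rw [hn]; exact ((hpp.coprime_iff_not_dvd.2 hlp).pow_left n).symm) v hv
  have hocl : orderOf (c * l) = orderOf s := by
    rw [← hxc, ← hos]; exact orderOf_injective (MulAut.conj x).toMonoidHom (MulAut.conj x).injective _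
  have hc1 : c = 1 := by
    have h1 : c ^ orderOf s = 1 := by
      have h := pow_orderOf_eq_one (c * l)
      rw [hocl, (show Commute c l from hcl).mul_pow, orderOf_dvd_iff_pow_eq_one.1 hlord, mul_one] at h
      exact h
    exact orderOf_eq_one_iff.1 (Nat.eq_one_of_dvd_coprimes
      ((hpp.coprime_iff_not_dvd.2 hsp).pow_left 3).symm (orderOf_dvd_of_pow_eq_one h1)
      (orderOf_dvd_of_pow_eq_one (hUpos c hcU)))
  rw [hc1, one_mul] at hxc hocl
  set u2 := x * u1 * x⁻¹ with hu2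
  have hu2U : u2 ∈ U := mul_mem (mul_mem hx hu1U) (inv_mem hx)
  have hcom1 : v * l * u1 = u1 * (v * l) := by
    apply (MulAut.conj g).injective
    calc g * (v * l * u1) * g⁻¹ = (g * (v * l) * g⁻¹) * (g * u1 * g⁻¹) := by group
      _ = (g * u1 * g⁻¹) * (g * (v * l) * g⁻¹) := by rw [hs1e, hu1e]; exact hsu
      _ = g * (u1 * (v * l)) * g⁻¹ := by group
  have hcom2 : l * u2 = u2 * l := by
    rw [← hxc, hu2, show x * (v * l) * x⁻¹ * (x * u1 * x⁻¹) = x * (v * l * u1) * x⁻¹ by group, hcom1]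
    group
  have hou : orderOf u2 = orderOf u := by
    rw [hu2, ← hu1e]
    exact (orderOf_injective (MulAut.conj x).toMonoidHom (MulAut.conj x).injective _).trans
      (orderOf_injective (MulAut.conj g).toMonoidHom (MulAut.conj g).injective _).symm
  obtain ⟨E, iE, iF, ι, σ, hfix, hσ, hE⟩ := ChevCent.exists_extension F (d := 2) two_pos
  have : CharP E p := charP_of_injective_ringHom ι.injective p
  obtain ⟨w, χ, hw, hwl, hχ⟩ := levi_cases p ι σ hfix hσ hE hJ hl hlp
  set u3 := w * glMap chevG2 ι u2 * w⁻¹ with hu3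
  obtain ⟨-, hdecE, -⟩ := levi_decomposition hcG (F := E) hcommG J
  have hwP : w ∈ chevG2.parabolicSubgroup E J := hdecE ▸ Subgroup.mem_sup_right hw
  have hu3U : u3 ∈ uGen chevG2 E (OutRoot chevG2 J) :=
    (Subgroup.mem_normalizer_iff.1 (parabolic_normalizes_radical hcG hcommG J hwP) _).1 (glMap_uGen hcG ι hu2U)
  have hclosed : ClosedPos chevG2 G2.tabs (OutRoot chevG2 J) :=
    ⟨fun r _ h => h.1, fun r s v hr hs h1 h2 hv => outRoot_comb hcG hr h1.1 hs h2 hv⟩
  have hfixu := mem_fix_of_commute hcG hcommG hclosed (χ := χ) hu3U (by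
    rw [← hwl, hu3, show w * glMap chevG2 ι l * w⁻¹ * (w * glMap chevG2 ι u2 * w⁻¹) * (w * glMap chevG2 ι l * w⁻¹)⁻¹ =
      w * (glMap chevG2 ι l * glMap chevG2 ι u2 * (glMap chevG2 ι l)⁻¹) * w⁻¹ by group,
      ← map_mul, hcom2, map_mul, mul_inv_cancel_right])
  have hordχ : orderOf (torus chevG2 G2.tabs E χ) = orderOf s := by
    rw [← hwl, ← hocl]
    exact (orderOf_injective (MulAut.conj w).toMonoidHom (MulAut.conj w).injective _).trans
      (orderOf_injective (glMap chevG2 ι) (glMap_injective ι) l)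
  have hχ1 : χ ≠ 1 := fun h => hs1 (orderOf_eq_one_iff.1 (by rw [← hordχ, h, map_one, orderOf_one]))
  have hou3 : orderOf u3 = orderOf u := by
    rw [← hou, hu3]
    exact (orderOf_injective (MulAut.conj w).toMonoidHom (MulAut.conj w).injective _).trans
      (orderOf_injective (glMap chevG2 ι) (glMap_injective ι) u2)
  have hdvd : ∀ m, χ ^ m = 1 → orderOf s ∣ m := fun m h => by
    rw [← hordχ]; exact orderOf_dvd_of_pow_eq_one (by rw [← map_pow, h, map_one])
  refine ⟨E, iE, iF, χ, u3, ‹CharP E p›, hχ1, uGen_mono (fun r _ h => ⟨h.1.1, h.2⟩) hfixu, hou3, hdvd, ?_⟩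
  rcases hχ with h | ⟨i, hi, h⟩
  · exact Or.inl (hdvd _ h)
  obtain ⟨r, hr, hfr⟩ : ∃ r, r < chevG2.nroots ∧ FixRoot chevG2 G2.tabs χ (OutRoot chevG2 J) r := by
    by_contra hno
    have hb : uGen chevG2 E (FixRoot chevG2 G2.tabs χ (OutRoot chevG2 J)) = ⊥ := by
      rw [eq_bot_iff, uGen_le_iff]
      exact fun r hr hP _ => absurd ⟨r, hr, hP⟩ hno
    rw [hb, Subgroup.mem_bot] at hfixu
    rw [hfixu, orderOf_one] at hou3
    exact hu1 (orderOf_eq_one_iff.1 hou3.symm)
  rcases twisted_fix hi h hr hfr with h3 | h3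
  · rcases (Nat.dvd_prime Nat.prime_three).1 (hdvd _ h3) with e | e
    · rw [e]; exact Or.inl (one_dvd _)
    · have hq3 : ¬ 3 ∣ Fintype.card F := fun h => hsp (by
        obtain ⟨n, -, hn⟩ := FiniteField.card F p
        rw [hn] at h
        have : 3 = p := (Nat.prime_dvd_prime_iff_eq Nat.prime_three hpp).1 (Nat.prime_three.dvd_of_dvd_pow h)
        rw [e, this])
      have := (Fintype.card_pos : 0 < Fintype.card F)
      rw [e]; omega
  · exact Or.inr (hdvd _ h3)

/-- A semisimple element centralising a nontrivial unipotent one, in odd characteristic. -/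
theorem mixed [Fintype F] (p : ℕ) [Fact p.Prime] [CharP F p] (hp : 3 ≤ p) {s u : GL chevG2.Idx F}
    (hs : s ∈ chevG2.group F) (hu : u ∈ chevG2.group F) (hsu : s * u = u * s) (hs1 : s ≠ 1) (hu1 : u ≠ 1)
    (hsp : ¬ p ∣ orderOf s) (hup : ∃ k, orderOf u = p ^ k) :
    u ^ p = 1 ∧ (orderOf s ∣ Fintype.card F - 1 ∨ orderOf s ∣ Fintype.card F + 1) := by
  obtain ⟨E, iE, iF, χ, u3, hE, hχ, hu3, hord, -, hdvd⟩ := mixed_core p hs hu hsu hs1 hu1 hsp hup
  exact ⟨orderOf_dvd_iff_pow_eq_one.1 (hord ▸ orderOf_dvd_of_pow_eq_one (fixed_exponent p hp hχ hu3)), hdvd⟩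

end CfsgLib.G2Orders
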