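import Cfsg.Agent.Lib.G2Invol.SL2
import Mathlib.FieldTheory.Finite.Basic

/-!
Twisted conjugacy of SL(2) to diagonal elements.
-/

set_option autoImplicit false
set_option linter.unusedSectionVars false

namespace CfsgLib.G2Orders

open CfsgLib.G2Invol CfsgLib.SteinbergTwo
open Matrix

variable {K : Type*} [Field K]

/-- a matrix with two distinct eigen values is diagonalisable by SL(2) -/
theorem diag_of_roots (M : Matrix (Fin 2) (Fin 2) K) {l m : K} (hs : l + m = M 0 0 + M 1 1)
    (hp : l * m = M 0 0 * M 1 1 - M 0 1 * M 1 0) (hne : l ≠ m) :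
    ∃ P : SpecialLinearGroup (Fin 2) K, (P : Matrix (Fin 2) (Fin 2) K) * M = !![l, 0; 0, m] * P := by
  set a := M 0 0 with ha
  set b := M 0 1 with hb
  set e := M 1 0 with he
  set d := M 1 1 with hd
  by_cases he0 : e = 0
  · rw [he0, mul_zero, sub_zero] at hp
    have hz : (l - a) * (l - d) = 0 := by linear_combination l * hs - hp
    rcases mul_eq_zero.1 hz with h | h
    · have hl : l = a := sub_eq_zero.1 h
      have hm : m = d := by linear_combination hs - hl
      have hδ : a - d ≠ 0 := sub_ne_zero.2 (by rwa [hl, hm] at hne)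
      refine ⟨⟨!![1, b / (a - d); 0, 1], by simp [det_fin_two]⟩, ?_⟩
      ext i j
      fin_cases i <;> fin_cases j <;>
        simp [Matrix.mul_apply, Fin.sum_univ_two, ← ha, ← hb, ← he, ← hd, he0, hl, hm]
      field_simp
      ring
    · have hl : l = d := sub_eq_zero.1 h
      have hm : m = a := by linear_combination hs - hl
      have hδ : d - a ≠ 0 := sub_ne_zero.2 (by rwa [hl, hm] at hne)
      refine ⟨⟨!![0, 1; -1, -b / (a - d)], by simp [det_fin_two]⟩, ?_⟩
      have hδ' : a - d ≠ 0 := fun h => hδ (by linear_combination -h)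
      ext i j
      fin_cases i <;> fin_cases j <;>
        simp [Matrix.mul_apply, Fin.sum_univ_two, ← ha, ← hb, ← he, ← hd, he0, hl, hm]
      field_simp
      ring
  · have hδ : e * (m - l) ≠ 0 := mul_ne_zero he0 (sub_ne_zero.2 hne.symm)
    refine ⟨⟨!![e / (e * (m - l)), (l - a) / (e * (m - l)); e, m - a], by
      rw [det_fin_two_of]; field_simp; ring⟩, ?_⟩
    ext i j
    fin_cases i <;> fin_cases j <;>
      simp [Matrix.mul_apply, Fin.sum_univ_two, ← ha, ← hb, ← he, ← hd]
    · field_simp; ring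
    · field_simp; linear_combination hp - l * hs
    · ring
    · linear_combination hp - m * hs

/-- diagonalisation in the twisted sense -/
theorem twist_diag (c : Kˣ) (A : SpecialLinearGroup (Fin 2) K) {l m : K}
    (hs : l + m = (c : K) * A 0 0 + A 1 1) (hp : l * m = c) (hne : l ≠ m) :
    ∃ (P : SpecialLinearGroup (Fin 2) K) (μ : Kˣ), (c : K) * μ = l ∧ dtwist c⁻¹ P * A = dd μ * P := by
  have hdet : A 0 0 * A 1 1 - A 0 1 * A 1 0 = 1 := by rw [← det_fin_two]; exact A.2
  obtain ⟨P, hP⟩ := diag_of_roots !![(c : K) * A 0 0, (c : K) * A 0 1; A 1 0, A 1 1] (l := l) (m := m)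
    (by simpa using hs) (by simp; linear_combination hp - (c : K) * hdet) hne
  have hl : l ≠ 0 := fun h => c.ne_zero (by rw [← hp, h, zero_mul])
  refine ⟨P, c⁻¹ * Units.mk0 l hl, by simp, ?_⟩
  have hm : m = (c : K) / l := by rw [eq_div_iff hl, mul_comm, hp]
  have e := fun i j => congrFun (congrFun hP i) j
  have e00 := e 0 0; have e01 := e 0 1; have e10 := e 1 0; have e11 := e 1 1
  simp [Matrix.mul_apply, Fin.sum_univ_two] at e00 e01 e10 e11
  rw [hm] at e10 e11
  have hc0 := c.ne_zero
  field_simp at e10 e11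
  ext i j
  fin_cases i <;> fin_cases j <;>
    simp [coe_dtwist, coe_dd, Matrix.mul_apply, Fin.sum_univ_two] <;> field_simp
  · linear_combination e00
  · linear_combination e01
  · linear_combination e10
  · linear_combination e11

/-- the equal eigen value case -/
theorem twist_equal (p : ℕ) [Fact p.Prime] [CharP K p] (c : Kˣ) (A : SpecialLinearGroup (Fin 2) K) (s : Kˣ)
    (hs : c * s ^ 2 = 1) (hst : (s : K) * ((c : K) * A 0 0 + A 1 1) = 2) : (dd s⁻¹ * A) ^ p = 1 := by
  have hdet : A 0 0 * A 1 1 - A 0 1 * A 1 0 = 1 := by rw [← det_fin_two]; exact A.2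
  set U := dd s⁻¹ * A with hU
  have hs' : (c : K) * (s : K) ^ 2 = 1 := by rw [← Units.val_pow_eq_pow_val, ← Units.val_mul, hs, Units.val_one]
  have hs0 := s.ne_zero
  have hU' : ((U : Matrix (Fin 2) (Fin 2) K) - 1) ^ 2 = 0 := by
    have k1 : (s : K)⁻¹ = (c : K) * s := inv_eq_of_mul_eq_one_right (by linear_combination hs')
    have htr : (c : K) * s * A 0 0 + (s : K) * A 1 1 = 2 := by linear_combination hst
    rw [sq]
    ext i j
    fin_cases i <;> fin_cases j <;>
      simp [hU, coe_dd, Matrix.mul_apply, Matrix.vecMul, dotProduct, Fin.sum_univ_two, k1]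
    · linear_combination ((c : K) * s * A 0 0) * htr - ((c : K) * (s : K) ^ 2) * hdet - hs'
    · linear_combination ((c : K) * s * A 0 1) * htr
    · linear_combination ((s : K) * A 1 0) * htr
    · linear_combination ((s : K) * A 1 1) * htr - ((c : K) * (s : K) ^ 2) * hdet - hs'
  have h0 : ((U : Matrix (Fin 2) (Fin 2) K) - 1) ^ p ^ 1 = 0 :=
    pow_eq_zero_of_le (by rw [pow_one]; exact (Fact.out : p.Prime).two_le) hU'
  have h1 := sub_pow_char_pow_of_commute p 1 (Commute.one_right (U : Matrix (Fin 2) (Fin 2) K))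
  rw [h0, one_pow, pow_one] at h1
  apply Subtype.ext
  exact (Matrix.SpecialLinearGroup.coe_pow U p).trans (sub_eq_zero.1 h1.symm)

/-- The roots of a quadratic over a finite field, in the quadratic extension. -/
theorem quadratic_roots {F E : Type*} [Field F] [Fintype F] [Field E] [Fintype E] (ι : F →+* E) (σ : E →+* E)
    (hfix : ∀ a, σ a = a ↔ a ∈ Set.range ι) (hσ : ∀ a, σ a = a ^ Fintype.card F)
    (hE : Fintype.card E = Fintype.card F ^ 2) {τ c : F} (hne : τ ^ 2 - 4 * c ≠ 0) :
    (∃ l m : F, l ≠ m ∧ l + m = τ ∧ l * m = c) ∨ ∃ l : E, σ l ≠ l ∧ l + σ l = ι τ ∧ l * σ l = ι c := by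
  classical
  have hσι : ∀ b, σ (ι b) = ι b := fun b => (hfix _).2 ⟨b, rfl⟩
  by_cases h2 : (2 : F) = 0
  · have h4 : (4 : F) = 0 := by rw [show (4 : F) = 2 * 2 by norm_num, h2, zero_mul]
    have h2E : (2 : E) = 0 := by rw [← map_ofNat ι 2, h2, map_zero]
    have hτ : τ ≠ 0 := fun h => hne (by rw [h, h4]; ring)
    let f : F →+ F :=
      { toFun := fun y => y ^ 2 + y
        map_zero' := by simp
        map_add' := fun x y => by linear_combination (x * y) * h2 }
    by_cases hd : c / τ ^ 2 ∈ f.range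
    · obtain ⟨y, hy⟩ := hd
      have hy' : y ^ 2 + y = c / τ ^ 2 := hy
      rw [eq_div_iff (pow_ne_zero 2 hτ)] at hy'
      exact Or.inl ⟨τ * y, τ * y + τ, fun h => hτ (by linear_combination -h), by linear_combination τ * y * h2,
        by linear_combination hy'⟩
    right
    let g : E →+ E :=
      { toFun := fun x => σ x + x
        map_zero' := by simp
        map_add' := fun x y => by rw [map_add]; ring }
    have hσσ : ∀ x : E, σ (σ x) = x := fun x => by
      rw [hσ, hσ, ← pow_mul, ← sq, ← hE, FiniteField.pow_card]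
    have hgr : g.range ≤ ι.toAddMonoidHom.range := by
      rintro _ ⟨x, rfl⟩
      exact (hfix _).1 (show σ (σ x + x) = σ x + x by rw [map_add, hσσ, add_comm])
    have hgk : g.ker = ι.toAddMonoidHom.range := by
      ext x
      show σ x + x = 0 ↔ x ∈ Set.range ι
      rw [← hfix]
      exact ⟨fun h => by linear_combination h - x * h2E, fun h => by rw [h]; linear_combination x * h2E⟩
    have hone : (1 : E) ∈ g.range := by
      have hcard := AddSubgroup.card_mul_index g.ker
      rw [AddSubgroup.index_ker, hgk, Nat.card_eq_fintype_card (α := E), hE, sq,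
        ← Nat.card_congr (AddMonoidHom.ofInjective (f := ι.toAddMonoidHom) ι.injective).toEquiv,
        Nat.card_eq_fintype_card (α := F)] at hcard
      have heq : g.range = ι.toAddMonoidHom.range := AddSubgroup.eq_of_le_of_card_ge hgr (by
        rw [← Nat.card_congr (AddMonoidHom.ofInjective (f := ι.toAddMonoidHom) ι.injective).toEquiv,
          Nat.card_eq_fintype_card (α := F)]
        exact (Nat.eq_of_mul_eq_mul_left Fintype.card_pos hcard).ge)
      rw [heq]; exact ⟨1, map_one ι⟩
    obtain ⟨z, hz⟩ := hone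
    have hz' : σ z = z + 1 := by
      have : σ z + z = 1 := hz
      linear_combination this - z * h2E
    obtain ⟨d0, hd0⟩ : z ^ 2 + z ∈ Set.range ι := (hfix _).1 (by
      rw [map_add, map_pow, hz']; linear_combination (z + 1) * h2E)
    have hd0' : d0 ∉ f.range := by
      rintro ⟨y, rfl⟩
      have e : (z + ι y) * (z + ι y + 1) = 0 := by
        have h' : ι (y ^ 2 + y) = z ^ 2 + z := hd0
        rw [map_add, map_pow] at h'
        linear_combination h' + (z * ι y + z ^ 2 + z) * h2E
      have hzF : σ z = z := by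
        rcases mul_eq_zero.1 e with h | h
        · have hz0 : z = ι (-y) := by rw [map_neg]; linear_combination h
          rw [hz0, hσι]
        · have hz0 : z = ι (-y - 1) := by rw [map_sub, map_neg, map_one]; linear_combination h
          rw [hz0, hσι]
      rw [hz'] at hzF
      exact one_ne_zero (by linear_combination hzF : (1 : E) = 0)
    have hidx : f.range.index = 2 := by
      have hk : Nat.card f.ker = 2 := by
        rw [Nat.card_eq_two_iff]
        refine ⟨0, ⟨1, show (1 : F) ^ 2 + 1 = 0 by linear_combination h2⟩,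
          fun h => zero_ne_one (congrArg Subtype.val h), ?_⟩
        ext ⟨y, hy⟩
        simp only [Set.mem_insert_iff, Set.mem_singleton_iff, Set.mem_univ, iff_true, Subtype.ext_iff]
        rcases mul_eq_zero.1 (show y * (y + 1) = 0 by
          have e : y ^ 2 + y = 0 := hy; linear_combination e) with h | h
        · exact Or.inl h
        · exact Or.inr (by linear_combination h - h2)
      have h1 := AddSubgroup.card_mul_index f.ker
      have h3 := AddSubgroup.card_mul_index f.range
      rw [AddSubgroup.index_ker, hk] at h1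
      have hpos : 0 < Nat.card f.range := Nat.card_pos
      nlinarith
    have hsum : c / τ ^ 2 + d0 ∈ f.range :=
      (AddSubgroup.add_mem_iff_of_index_two hidx).2 ⟨fun h => absurd h hd, fun h => absurd h hd0'⟩
    obtain ⟨y, hy⟩ := hsum
    have hy' : ι y ^ 2 + ι y = ι (c / τ ^ 2) + (z ^ 2 + z) := by
      rw [← hd0, ← map_pow, ← map_add, ← map_add]; exact congrArg ι hy
    have hτE : ι τ ≠ 0 := (map_ne_zero ι).2 hτ
    have hc : ι c = ι τ ^ 2 * ι (c / τ ^ 2) := by
      rw [← map_pow, ← map_mul, mul_div_cancel₀ _ (pow_ne_zero 2 hτ)]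
    have hσw : σ (ι τ * (ι y + z)) = ι τ * (ι y + z) + ι τ := by
      rw [map_mul, map_add, hσι, hσι, hz']; ring
    refine ⟨ι τ * (ι y + z), ?_, ?_, ?_⟩
    · rw [hσw]
      exact fun h => hτE (by linear_combination h)
    · rw [hσw]; linear_combination (ι τ * (ι y + z)) * h2E
    · rw [hσw, hc]
      linear_combination ι τ ^ 2 * hy' + (ι τ ^ 2 * (ι y * z + z ^ 2 + z)) * h2E
  by_cases hsq : IsSquare (τ ^ 2 - 4 * c)
  · obtain ⟨r, hr⟩ := hsq
    refine Or.inl ⟨(τ + r) / 2, (τ - r) / 2, fun h => hne ?_, by field_simp; ring,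
      by field_simp; linear_combination hr⟩
    field_simp at h
    rw [hr, show r = 0 from (mul_eq_zero.1 (show (2 : F) * r = 0 by linear_combination h)).resolve_left h2,
      mul_zero]
  right
  have h2E : (2 : E) ≠ 0 := by
    rw [← map_ofNat ι 2]; exact (map_ne_zero ι).2 h2
  have hsqE : IsSquare (ι (τ ^ 2 - 4 * c)) := by
    rw [FiniteField.isSquare_iff (fun h => h2E (by
      have := ringChar.of_eq h; exact_mod_cast CharP.cast_eq_zero E 2)) ((map_ne_zero ι).2 hne), hE]
    have hodd : Fintype.card F % 2 = 1 := FiniteField.odd_card_of_char_ne_two fun h => h2 (by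
      have := ringChar.of_eq h; exact_mod_cast CharP.cast_eq_zero F 2)
    obtain ⟨k, hk⟩ : ∃ k, Fintype.card F = 2 * k + 1 := ⟨Fintype.card F / 2, by omega⟩
    have e : Fintype.card F ^ 2 / 2 = (Fintype.card F - 1) * (k + 1) := by
      rw [hk, show (2 * k + 1) ^ 2 = 2 * (2 * k * (k + 1)) + 1 by ring, Nat.add_sub_cancel]
      omega
    rw [e, pow_mul, ← map_pow, FiniteField.pow_card_sub_one_eq_one _ hne, map_one, one_pow]
  obtain ⟨r, hr⟩ := hsqE
  have hσr : σ r = -r := by
    have e : σ r * σ r = r * r := by rw [← map_mul, ← hr, hσι]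
    rcases mul_self_eq_mul_self_iff.1 e with h | h
    · obtain ⟨b, hb⟩ := (hfix r).1 h
      exact absurd ⟨b, ι.injective (by rw [hr, map_mul, hb])⟩ hsq
    · exact h
  have hr' : r * r = ι τ ^ 2 - 4 * ι c := by rw [← hr, map_sub, map_pow, map_mul, map_ofNat]
  have hσl : σ ((ι τ + r) / 2) = (ι τ - r) / 2 := by
    rw [map_div₀, map_add, hσι, hσr, map_ofNat]; ring
  refine ⟨(ι τ + r) / 2, ?_, ?_, ?_⟩
  · rw [hσl]
    intro h
    field_simp at h
    have hr0 : r = 0 := (mul_eq_zero.1 (show (2 : E) * r = 0 by linear_combination -h)).resolve_left h2E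
    rw [hr0, mul_zero] at hr
    exact hne ((map_eq_zero ι).1 hr)
  · rw [hσl]; field_simp; ring
  · rw [hσl]; field_simp; linear_combination -hr'

/-- Twisted classification of an element of SL(2) over a finite field. -/
theorem twist_cases {F E : Type*} [Field F] [Fintype F] [Field E] [Fintype E] (p : ℕ) [Fact p.Prime] [CharP F p]
    (ι : F →+* E) (σ : E →+* E) (hfix : ∀ a, σ a = a ↔ a ∈ Set.range ι)
    (hσ : ∀ a, σ a = a ^ Fintype.card F) (hE : Fintype.card E = Fintype.card F ^ 2) (c : Fˣ)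
    (A : SpecialLinearGroup (Fin 2) F) :
    (∃ s : Fˣ, c * s ^ 2 = 1 ∧ (dd s⁻¹ * A) ^ p = 1) ∨
    (∃ (P : SpecialLinearGroup (Fin 2) F) (μ : Fˣ), dtwist c⁻¹ P * A = dd μ * P) ∨
    (∃ (P : SpecialLinearGroup (Fin 2) E) (μ : Eˣ), σ μ * (ι c * μ) = 1 ∧
      dtwist (Units.map ι.toMonoidHom c)⁻¹ P * SpecialLinearGroup.map ι A = dd μ * P) := by
  set τ := (c : F) * A 0 0 + A 1 1 with hτ
  by_cases h0 : τ ^ 2 - 4 * (c : F) = 0
  · left
    by_cases h2 : (2 : F) = 0
    · obtain ⟨t, ht⟩ := FiniteField.isSquare_of_char_two (ringChar.eq_iff.2 (CharTwo.of_one_ne_zero_of_two_eq_zero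
        one_ne_zero h2)) ((c : F)⁻¹)
      have ht0 : t ≠ 0 := fun h => inv_ne_zero c.ne_zero (by rw [ht, h, mul_zero])
      have hτ0 : τ = 0 := by
        rw [show (4 : F) = 2 * 2 by norm_num, h2, zero_mul, zero_mul, sub_zero] at h0
        exact pow_eq_zero_iff two_ne_zero |>.1 h0
      have hs : c * (Units.mk0 t ht0) ^ 2 = 1 := Units.ext (by
        rw [Units.val_mul, Units.val_pow_eq_pow_val, Units.val_mk0, sq, ← ht, mul_inv_cancel₀ c.ne_zero,
          Units.val_one])
      exact ⟨_, hs, twist_equal p c A _ hs (by rw [← hτ, hτ0, mul_zero, h2])⟩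
    · have h4 : (4 : F) ≠ 0 := by rw [show (4 : F) = 2 * 2 by norm_num]; exact mul_ne_zero h2 h2
      have hτ0 : τ ≠ 0 := fun h => by
        rw [h, zero_pow two_ne_zero, zero_sub, neg_eq_zero] at h0
        exact mul_ne_zero h4 c.ne_zero h0
      have hs : c * (Units.mk0 (2 / τ) (div_ne_zero h2 hτ0)) ^ 2 = 1 := Units.ext (by
        rw [Units.val_mul, Units.val_pow_eq_pow_val, Units.val_mk0, Units.val_one, div_pow, sub_eq_zero.1 h0]
        field_simp
        norm_num [h4])
      exact ⟨_, hs, twist_equal p c A _ hs (by rw [← hτ, Units.val_mk0, div_mul_cancel₀ _ hτ0])⟩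
  rcases quadratic_roots ι σ hfix hσ hE h0 with ⟨l, m, hne, hs, hp⟩ | ⟨l, hne, hs, hp⟩
  · obtain ⟨P, μ, -, hP⟩ := twist_diag c A (hs.trans hτ) hp hne
    exact Or.inr (Or.inl ⟨P, μ, hP⟩)
  right; right
  obtain ⟨P, μ, hμ, hP⟩ := twist_diag (Units.map ι.toMonoidHom c) (SpecialLinearGroup.map ι A) (l := l) (m := σ l)
    (by
      show _ = ι c * ι (A 0 0) + ι (A 1 1)
      rw [hs, hτ, map_add, map_mul]) hp (Ne.symm hne)
  refine ⟨P, μ, ?_, hP⟩
  have hc0 : ι c ≠ 0 := (map_ne_zero ι).2 c.ne_zero
  have hσι : σ (ι c) = ι c := (hfix _).2 ⟨_, rfl⟩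
  have hμ' : ι c * (μ : E) = l := hμ
  apply mul_left_cancel₀ hc0
  rw [mul_one, ← mul_assoc]
  conv_lhs => arg 1; rw [← hσι, ← map_mul, hμ']
  rw [hμ', mul_comm, hp]

end CfsgLib.G2Orders
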