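import Cfsg.Agent.Lib.G2Orders.Elliptic
import Cfsg.Agent.Lib.G2Orders.Levi
import Cfsg.Agent.Lib.G2Orders.Mixed
import Cfsg.Agent.Lib.G2Invol.Classes
import Cfsg.Agent.Lib.Chev.OrderCases

/-!
Orders of the semisimple elements of G₂ in odd characteristic.
-/

set_option autoImplicit false
set_option linter.unusedSectionVars false

namespace CfsgLib.G2Orders

open Cfsg.Lie CfsgLib.Chev CfsgLib.G2Invol CfsgLib.ChevField CfsgLib.ChevSL2 CfsgLib.SteinbergTwo
open Matrix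

variable {F : Type*} [Field F]

theorem dtwist_one {K : Type*} [Field K] (P : SpecialLinearGroup (Fin 2) K) : dtwist (1 : Kˣ) P = P := by
  ext r s
  fin_cases r <;> fin_cases s <;> simp [coe_dtwist]

/-- exponent of SL(2) -/
theorem sl2_exponent [Fintype F] (p : ℕ) [Fact p.Prime] [CharP F p] (hodd : Odd (Fintype.card F))
    (A : SpecialLinearGroup (Fin 2) F) :
    A ^ ((Fintype.card F ^ 2 - 1) / 2 * p) = 1 := by
  classical
  obtain ⟨j, hj⟩ := hodd
  have hK : (Fintype.card F ^ 2 - 1) / 2 = 2 * j * (j + 1) := by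
    rw [hj, show (2 * j + 1) ^ 2 = 2 * (2 * j * (j + 1)) + 1 by ring, Nat.add_sub_cancel]; omega
  rw [hK]
  obtain ⟨E, iE, iF, ι, σ, hfix, hσ, hE⟩ := ChevCent.exists_extension F (d := 2) two_pos
  rcases twist_cases p ι σ hfix hσ hE 1 A with ⟨s, hs, hU⟩ | ⟨P, μ, hP⟩ | ⟨P, μ, hμ, hP⟩
  · rw [one_mul] at hs
    have hc : Commute (dd s⁻¹) A := by
      have hs' : s = 1 ∨ s = -1 := by
        rcases mul_self_eq_one_iff.1 (show (s : F) * s = 1 by rw [← Units.val_mul, ← sq, hs, Units.val_one]) with e | e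
        · exact Or.inl (Units.ext e)
        · exact Or.inr (Units.ext (by rw [e]; simp))
      rcases hs' with rfl | rfl
      · rw [inv_one, dd_one]; exact Commute.one_left _
      · rw [show (-1 : Fˣ)⁻¹ = -1 by simp]; exact dd_neg_one_commute A
    have h2p : A ^ (2 * p) = 1 := by
      have h : (dd s⁻¹ * A) ^ (2 * p) = 1 := by rw [mul_comm 2 p, pow_mul, hU, one_pow]
      rw [hc.mul_pow, pow_mul (dd s⁻¹), sq (dd s⁻¹), dd_mul, ← sq, inv_pow, hs, inv_one, dd_one, one_pow,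
        one_mul] at h
      exact h
    obtain ⟨k, hk⟩ : 2 * p ∣ 2 * j * (j + 1) * p := Nat.mul_dvd_mul_right (by
      rw [mul_assoc]; exact dvd_mul_right _ _) p
    rw [hk, pow_mul, h2p, one_pow]
  · simp only [inv_one] at hP
    rw [dtwist_one] at hP
    have hA : A = MulAut.conj P⁻¹ (dd μ) := by rw [MulAut.conj_apply, inv_inv, mul_assoc, ← hP, inv_mul_cancel_left]
    have hμ : dd μ ^ (2 * j) = 1 := by
      have hdd : ∀ n : ℕ, dd μ ^ n = dd (μ ^ n) := by
        intro n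
        induction n with
        | zero => rw [pow_zero, pow_zero, dd_one]
        | succ n ih => rw [pow_succ, ih, dd_mul, pow_succ]
      rw [hdd, show μ ^ (2 * j) = 1 from Units.ext (by
        rw [Units.val_pow_eq_pow_val, show 2 * j = Fintype.card F - 1 by omega,
          FiniteField.pow_card_sub_one_eq_one _ μ.ne_zero]; rfl), dd_one]
    rw [hA, ← map_pow, show 2 * j * (j + 1) * p = 2 * j * ((j + 1) * p) by ring, pow_mul, hμ, one_pow, map_one]
  · rw [map_one, inv_one, dtwist_one] at hP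
    have hA : SpecialLinearGroup.map ι A = MulAut.conj P⁻¹ (dd μ) := by
      rw [MulAut.conj_apply, inv_inv, mul_assoc, ← hP, inv_mul_cancel_left]
    have hμ1 : μ ^ (2 * (j + 1)) = 1 := Units.ext (by
      rw [Units.val_pow_eq_pow_val, show 2 * (j + 1) = Fintype.card F + 1 by omega, pow_succ, ← hσ, Units.val_one]
      simpa using hμ)
    have hdd : ∀ n : ℕ, dd μ ^ n = dd (μ ^ n) := by
      intro n
      induction n with
      | zero => rw [pow_zero, pow_zero, dd_one]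
      | succ n ih => rw [pow_succ, ih, dd_mul, pow_succ]
    have hinj : Function.Injective (SpecialLinearGroup.map (n := Fin 2) ι) := fun a b h => by
      ext r s
      exact ι.injective (congrArg (fun M : SpecialLinearGroup (Fin 2) E => M r s) h)
    apply hinj
    rw [map_pow, map_one, hA, ← map_pow,
      show 2 * j * (j + 1) * p = 2 * (j + 1) * (j * p) by ring, pow_mul, hdd, hμ1, dd_one, one_pow, map_one]

/-- the rotation of order three -/
def W3 : List (Fin chevG2.rank) := [ia, ib, ia, ib]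

theorem reflChars_W3 (χ : Fin chevG2.rank → Fˣ) :
    reflChars W3 χ = chr ((χ ia ^ 2 * χ ib)⁻¹) (χ ia ^ 3 * χ ib) := by
  rw [chr_ext (χ := reflChars W3 χ)]
  simp only [W3, reflChars, List.foldr_cons, List.foldr_nil, (refl_vals _).1.1, (refl_vals _).1.2,
    (refl_vals _).2.1, (refl_vals _).2.2]
  congr 1 <;> apply Units.ext <;>
    simp only [Units.val_mul, Units.val_pow_eq_pow_val, Units.val_inv_eq_inv_val] <;>
    field_simp

theorem norm_W3 (χ : Fin chevG2.rank → Fˣ) : χ * reflChars W3 χ * reflChars W3 (reflChars W3 χ) = 1 := by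
  rw [reflChars_W3 (reflChars W3 χ), reflChars_W3 χ]
  funext i
  rcases fin_rank i with rfl | rfl <;>
    simp only [Pi.mul_apply, Pi.one_apply, chr_ia, chr_ib] <;> apply Units.ext <;>
    simp only [Units.val_mul, Units.val_one, Units.val_pow_eq_pow_val, Units.val_inv_eq_inv_val] <;>
    field_simp

theorem W3_pow_mem : nProd chevG2 F W3 ^ 3 ∈ chevG2.diagonalSubgroup F := by
  rw [pow_succ, sq, ← nProd_append, ← nProd_append]
  refine nProd_mem_of_pos hcG _ fun i => ?_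
  revert i
  decide +kernel

theorem nProd_W3_cube : nProd chevG2 F W3 ^ 3 = 1 := by
  have hm := W3_pow_mem (F := F)
  obtain ⟨c, hc⟩ := (mem_diagonal hcG).1 hm
  set n := nProd chevG2 F W3 with hn
  set χ := hPar chevG2 F c with hχ
  have hsq : χ ^ 2 = 1 := by
    funext i
    obtain ⟨e, he, hconj⟩ := nProd_conj_elX_pair hcG (F := F) (W3 ++ W3 ++ W3) (simple_lt hcG i.2)
    have h1 := (hconj 1).1
    rw [nProd_append, nProd_append, ← hn, show n * n * n = n ^ 3 by rw [pow_succ, sq], ← hc,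
      torus_conj_elX hcG χ (simple_lt hcG i.2), rv_simple hcG, chi_single, zpow_one] at h1
    have hfix : ∀ i : Fin chevG2.rank,
        sigs chevG2 G2.tabs (W3 ++ W3 ++ W3) (chevG2.simple i) = chevG2.simple i := by decide +kernel
    rw [hfix] at h1
    have h2' : elX chevG2 F (chevG2.simple i) ((χ i : F) * 1 - (e : F) * 1) = 1 := by
      rw [sub_eq_add_neg, ← elX_add hcG F (simple_lt hcG i.2), h1, elX_add hcG F (simple_lt hcG i.2), add_neg_cancel,
        elX_zero hcG F (simple_lt hcG i.2)]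
    have h3 := (elX_eq_one_iff hcG (simple_lt hcG i.2) _).1 h2'
    rw [mul_one, mul_one, sub_eq_zero] at h3
    refine Units.ext ?_
    rw [Pi.pow_apply, Units.val_pow_eq_pow_val, h3]
    rcases he with e' | e' <;> rw [e'] <;> simp
  have hfixed : reflChars W3 χ = χ := by
    refine torus_injective hcG (T := G2.tabs) ?_
    rw [← nProd_conj_torus hcG W3 χ, hc, ← hn]
    rw [pow_succ, sq]; group
  have h3 := norm_W3 χ
  rw [hfixed, hfixed, ← sq, hsq, one_mul] at h3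
  rw [← hc, h3, map_one]

theorem W3_moves : sigs chevG2 G2.tabs W3 7 ≠ 7 := by decide +kernel

/-- exponent of the Sylow subgroups for the odd primes dividing `|E| - 1` -/
theorem sylow_exponent {E : Type*} [Field E] [Fintype E] {r v e : ℕ} (hr : r.Prime) (hr2 : r ≠ 2)
    (hv : 1 ≤ v) (hQ : Fintype.card E - 1 = r ^ v * e) (he : ¬ r ∣ e) {x : ↥(chevG2.group E)}
    (hx : ∃ k, x ^ r ^ k = 1) : x ^ r ^ v = 1 := by
  classical
  have := Fact.mk hr
  set Q := Fintype.card E with hQdef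
  have hQ1 : 1 < Q := Fintype.one_lt_card
  set m := r ^ v with hm
  have hm0 : 0 < m := pow_pos hr.pos v
  let S : Subgroup (Fin chevG2.rank → Eˣ) := (powMonoidHom m).ker
  set A : Subgroup (GL chevG2.Idx E) := S.map (torus chevG2 G2.tabs E) with hA
  have hAG : A ≤ chevG2.group E := by
    rintro _ ⟨χ, -, rfl⟩; exact diagonal_le_group hcG (G2Invol.tor_mem χ)
  have hAexp : ∀ a ∈ A, a ^ m = 1 := by
    rintro _ ⟨χ, hχ, rfl⟩
    rw [← map_pow, show χ ^ m = 1 from hχ, map_one]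
  have hAcard : Nat.card ↥A = m ^ 2 := by
    rw [Nat.card_congr (Subgroup.equivMapOfInjective S _ (torus_injective hcG)).symm.toEquiv]
    let M0 : Subgroup Eˣ := (powMonoidHom m).ker
    let eqv : ↥S ≃ (Fin chevG2.rank → ↥M0) :=
      { toFun := fun x i => ⟨x.1 i, congrFun x.2 i⟩
        invFun := fun f => ⟨fun i => (f i).1, funext fun i => (f i).2⟩
        left_inv := fun _ => rfl
        right_inv := fun _ => rfl }
    rw [Nat.card_congr eqv, Nat.card_fun, Nat.card_fin, show chevG2.rank = 2 from rfl]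
    congr 1
    rw [IsCyclic.card_powMonoidHom_ker, Nat.card_units, Nat.card_eq_fintype_card, ← hQdef, hQ, Nat.gcd_comm,
      Nat.gcd_eq_left (dvd_mul_right m e)]
  obtain ⟨k0, hk0⟩ : ∃ k0, Q = 1 + r * k0 := by
    refine ⟨r ^ (v - 1) * e, ?_⟩
    rw [← mul_assoc, ← pow_succ', show v - 1 + 1 = v by omega, ← hm, ← hQ]; omega
  have hG : Nat.card ↥(chevG2.group E) =
      m ^ 2 * (e ^ 2 * Q ^ 6 * (Q + 1) ^ 2 * ((Q ^ 2 - Q + 1) * (Q ^ 2 + Q + 1))) := by
    rw [card_group_G2 hQdef.symm]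
    have h1 : Q = Q - 1 + 1 := by omega
    rw [hQ] at h1
    obtain ⟨N, hN⟩ : ∃ N, r ^ v * e = N := ⟨_, rfl⟩
    rw [hN] at h1
    have e2 : Q ^ 2 - 1 = N * (N + 2) := by rw [h1, show (N + 1) ^ 2 = N * (N + 2) + 1 by ring, Nat.add_sub_cancel]
    have e3 : Q ^ 2 - Q + 1 = N ^ 2 + N + 1 := by
      rw [h1, show (N + 1) ^ 2 = N ^ 2 + N + (N + 1) by ring, Nat.add_sub_cancel]
    have e6 : Q ^ 6 - 1 = N * (N + 2) * ((N ^ 2 + N + 1) * (N ^ 2 + 3 * N + 3)) := by
      rw [h1, show (N + 1) ^ 6 = N * (N + 2) * ((N ^ 2 + N + 1) * (N ^ 2 + 3 * N + 3)) + 1 by ring, Nat.add_sub_cancel]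
    rw [e2, e3, e6, h1, hm, show N + 1 + 1 = N + 2 from rfl, ← hN]
    ring
  have hndvd : ∀ z : ZMod r, z ≠ 0 → ∀ n : ℕ, (n : ZMod r) = z → ¬ r ∣ n := fun z hz n hn h =>
    hz (hn ▸ (ZMod.natCast_eq_zero_iff _ r).2 h)
  have hQc : (Q : ZMod r) = 1 := by rw [hk0]; simp
  have hQ2 : Q ≤ Q ^ 2 := Nat.le_self_pow two_ne_zero Q
  have hsmall : ¬ r ∣ e ^ 2 * Q ^ 6 * (Q + 1) ^ 2 * (Q ^ 2 - Q + 1) := by
    rw [hr.dvd_mul, hr.dvd_mul, hr.dvd_mul]
    rintro (((h | h) | h) | h)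
    · exact he (hr.dvd_of_dvd_pow h)
    · exact hndvd 1 one_ne_zero Q hQc (hr.dvd_of_dvd_pow h)
    · refine hndvd 2 (fun h2' => ?_) (Q + 1) (by rw [Nat.cast_add, hQc, Nat.cast_one]; norm_num) (hr.dvd_of_dvd_pow h)
      exact hr2 ((Nat.prime_dvd_prime_iff_eq hr Nat.prime_two).1 ((ZMod.natCast_eq_zero_iff 2 r).1 (by exact_mod_cast h2')))
    · exact hndvd 1 one_ne_zero _ (by rw [Nat.cast_add, Nat.cast_sub hQ2, Nat.cast_pow, hQc]; simp) h
  -- a subgroup of index prime to `r` and exponent `m`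
  obtain ⟨P, hPG, hPp, hPi, hPexp⟩ : ∃ P : Subgroup (GL chevG2.Idx E), P ≤ chevG2.group E ∧ IsPGroup r ↥P ∧
      (∃ M, Nat.card ↥(chevG2.group E) = Nat.card ↥P * M ∧ ¬ r ∣ M) ∧ ∀ a ∈ P, a ^ m = 1 := by
    have hAp : IsPGroup r ↥A := IsPGroup.of_card (n := v * 2) (by rw [hAcard, hm, ← pow_mul])
    by_cases hr3 : r = 3
    swap
    · refine ⟨A, hAG, hAp, ⟨_, by rw [hAcard]; exact hG, ?_⟩, hAexp⟩
      rw [← mul_assoc, hr.dvd_mul]
      rintro (h | h)
      · exact hsmall h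
      · refine hndvd 3 (fun h3 => ?_) _ (by rw [Nat.cast_add, Nat.cast_add, Nat.cast_pow, hQc]; norm_num) h
        exact hr3 ((Nat.prime_dvd_prime_iff_eq hr Nat.prime_three).1
          ((ZMod.natCast_eq_zero_iff 3 r).1 (by exact_mod_cast h3)))
    subst hr3
    set n := nProd chevG2 E W3 with hn
    have hn3 : n ^ 3 = 1 := nProd_W3_cube
    have hnt : ∀ χ, n * torus chevG2 G2.tabs E χ * n⁻¹ = torus chevG2 G2.tabs E (reflChars W3 χ) :=
      fun χ => nProd_conj_torus hcG W3 χ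
    have hS : ∀ χ ∈ S, reflChars W3 χ ∈ S := by
      intro χ hχ
      have hχ' : ∀ i, χ i ^ m = 1 := fun i => congrFun hχ i
      show reflChars W3 χ ^ m = 1
      rw [reflChars_W3]
      funext i
      rcases fin_rank i with rfl | rfl
      · rw [Pi.pow_apply, chr_ia, inv_pow, mul_pow, ← pow_mul, mul_comm 2 m, pow_mul, hχ', hχ', one_pow, one_mul,
          inv_one]; rfl
      · rw [Pi.pow_apply, chr_ib, mul_pow, ← pow_mul, mul_comm 3 m, pow_mul, hχ', hχ', one_pow, one_mul]; rfl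
    have hnA : ∀ a ∈ A, n * a * n⁻¹ ∈ A := by
      rintro _ ⟨χ, hχ, rfl⟩; exact ⟨_, hS χ hχ, (hnt χ).symm⟩
    have hnN : n ∈ Subgroup.normalizer (A : Set (GL chevG2.Idx E)) := by
      rw [Subgroup.mem_normalizer_iff]
      refine fun a => ⟨hnA a, fun h => ?_⟩
      have h1 := hnA _ (hnA _ h)
      rw [show n * (n * (n * a * n⁻¹) * n⁻¹) * n⁻¹ = n ^ 3 * a * (n ^ 3)⁻¹ by rw [pow_succ, sq]; group, hn3] at h1
      simpa using h1
    have hnA1 : n ∉ A := by
      rintro ⟨χ, -, hχ⟩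
      obtain ⟨c, -, hc⟩ := nProd_conj_elX hcG (F := E) W3 n7
      have h1 := hc 1
      rw [← hn, ← hχ, torus_conj_elX hcG χ n7] at h1
      exact W3_moves (elX_root_unique hcG n7 (sigs_lt hcG W3 n7)
        (mul_ne_zero (Units.ne_zero _) one_ne_zero) h1).symm
    set P := Subgroup.zpowers n ⊔ A with hP
    have hnG : n ∈ chevG2.group E := monomial_le_group hcG (nProd_mem_monomial hcG W3)
    have hPG : P ≤ chevG2.group E := sup_le (Subgroup.zpowers_le.2 hnG) hAG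
    have hzn : IsPGroup 3 ↥(Subgroup.zpowers n) := by
      obtain ⟨i, -, hi⟩ := (Nat.dvd_prime_pow Nat.prime_three).1
        (show orderOf n ∣ 3 ^ 1 by rw [pow_one]; exact orderOf_dvd_of_pow_eq_one hn3)
      exact IsPGroup.of_card (n := i) (by rw [Nat.card_zpowers, hi])
    have hPp : IsPGroup 3 ↥P := hzn.to_sup_of_normal_right' hAp (Subgroup.zpowers_le.2 hnN)
    refine ⟨P, hPG, hPp, ?_, ?_⟩
    · obtain ⟨k, hk⟩ := IsPGroup.iff_card.1 hPp
      obtain ⟨k1, hk1⟩ : ∃ k1, k0 = k1 := ⟨k0, rfl⟩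
      set M := e ^ 2 * Q ^ 6 * (Q + 1) ^ 2 * (Q ^ 2 - Q + 1) * (3 * k0 ^ 2 + 3 * k0 + 1) with hMdef
      have hG' : Nat.card ↥(chevG2.group E) = 3 ^ (v * 2 + 1) * M := by
        rw [hG, hm, ← pow_mul, pow_succ, hMdef, show Q ^ 2 + Q + 1 = 3 * (3 * k0 ^ 2 + 3 * k0 + 1) by rw [hk0]; ring]
        ring
      have hM : ¬ 3 ∣ M := by
        rw [hMdef, hr.dvd_mul]
        rintro (h | h)
        · exact hsmall h
        · omega
      refine ⟨M, ?_, hM⟩
      have hlo : v * 2 < k := by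
        by_contra hle
        have hcard : Nat.card ↥P ≤ Nat.card ↥A := by
          rw [hk, hAcard, hm, ← pow_mul]; exact Nat.pow_le_pow_right (by norm_num) (not_lt.1 hle)
        have := Subgroup.eq_of_le_of_card_ge (le_sup_right : A ≤ P) hcard
        exact hnA1 (this ▸ Subgroup.mem_sup_left (Subgroup.mem_zpowers n))
      have hdvd : 3 ^ k ∣ 3 ^ (v * 2 + 1) * M := hG' ▸ hk ▸ Subgroup.card_dvd_of_le hPG
      have hup : k ≤ v * 2 + 1 := (Nat.pow_dvd_pow_iff_le_right (by norm_num)).1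
        (((Nat.Prime.coprime_iff_not_dvd hr).2 hM).pow_left k |>.dvd_of_dvd_mul_right hdvd)
      rw [hG', hk, show k = v * 2 + 1 by omega]
    · intro a ha
      rw [← SetLike.mem_coe, Subgroup.coe_mul_of_left_le_normalizer_right _ _ (Subgroup.zpowers_le.2 hnN)] at ha
      obtain ⟨b, hb, t, ⟨χ, hχ, rfl⟩, rfl⟩ := ha
      have h3 : (3 : ℕ) ∣ m := dvd_pow_self 3 (by omega)
      obtain ⟨j, hj⟩ := h3
      obtain ⟨z, rfl⟩ := Subgroup.mem_zpowers_iff.1 hb
      dsimp only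
      set t := torus chevG2 G2.tabs E χ
      have hz : n ^ z = n ^ (z % 3) := zpow_eq_zpow_emod' z hn3
      have cube : ∀ ψ, (n * torus chevG2 G2.tabs E ψ) ^ 3 = 1 := by
        intro ψ
        have e1 := hnt ψ
        have e2 := hnt (reflChars W3 ψ)
        have e3 := hnt (reflChars W3 (reflChars W3 ψ))
        calc (n * torus chevG2 G2.tabs E ψ) ^ 3
            = (n * torus chevG2 G2.tabs E ψ * n⁻¹) * (n * (n * torus chevG2 G2.tabs E ψ * n⁻¹) * n⁻¹) *
                (n * (n * (n * torus chevG2 G2.tabs E ψ * n⁻¹) * n⁻¹) * n⁻¹) * n ^ 3 := by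
              simp only [pow_succ, pow_zero, one_mul]; group
          _ = 1 := by rw [e1, e2, e3, hn3, ← map_mul, ← map_mul, norm_W3, map_one, one_mul]
      have hmod : z % 3 = 0 ∨ z % 3 = 1 ∨ z % 3 = 2 := by omega
      rcases hmod with e0 | e0 | e0 <;> rw [hz, e0]
      · rw [zpow_zero, one_mul, ← map_pow, show χ ^ m = 1 from hχ, map_one]
      · rw [zpow_one, hj, pow_mul, cube, one_pow]
      · rw [zpow_ofNat]
        have hinv : n ^ 2 * t = (n * torus chevG2 G2.tabs E (reflChars W3 (reflChars W3 χ))⁻¹)⁻¹ := by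
          rw [_root_.mul_inv_rev, map_inv, inv_inv, ← hnt, ← hnt]
          calc n ^ 2 * t = n * (n * t * n⁻¹) * n⁻¹ * (n ^ 3 * n⁻¹) := by rw [sq, pow_succ, sq]; group
            _ = n * (n * t * n⁻¹) * n⁻¹ * n⁻¹ := by rw [hn3, one_mul]
        rw [hinv, hj, pow_mul, inv_pow, cube, inv_one, one_pow]
  obtain ⟨M, hM, hMr⟩ := hPi
  set P' := P.subgroupOf (chevG2.group E) with hP'
  have hP'p : IsPGroup r ↥P' := hPp.of_equiv (Subgroup.subgroupOfEquivOfLe hPG).symm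
  have hidx : P'.index = M := by
    have h := Subgroup.card_mul_index P'
    rw [Nat.card_congr (Subgroup.subgroupOfEquivOfLe hPG).toEquiv, hM] at h
    exact Nat.eq_of_mul_eq_mul_left Nat.card_pos h
  obtain ⟨k, hk⟩ := hx
  obtain ⟨i, -, hi⟩ := (Nat.dvd_prime_pow hr).1 (orderOf_dvd_of_pow_eq_one hk)
  have hxp : IsPGroup r ↥(Subgroup.zpowers x) := IsPGroup.of_card (n := i) (by rw [Nat.card_zpowers, hi])
  obtain ⟨R, hR⟩ := hxp.exists_le_sylow
  obtain ⟨g, hg⟩ := MulAction.exists_smul_eq ↥(chevG2.group E) R (hP'p.toSylow (hidx ▸ hMr))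
  have h1 : g * x * g⁻¹ ∈ P' := by
    have : g * x * g⁻¹ ∈ ((hP'p.toSylow (hidx ▸ hMr) : Sylow r _) : Subgroup ↥(chevG2.group E)) := by
      rw [← hg, Sylow.coe_subgroup_smul]
      exact Subgroup.smul_mem_pointwise_smul _ (MulAut.conj g) _ (hR (Subgroup.mem_zpowers x))
    exact this
  have h2' : (MulAut.conj g x) ^ m = 1 := Subtype.ext (hPexp _ h1)
  rw [← map_pow] at h2'
  exact (MulAut.conj g).injective (h2'.trans (map_one _).symm)

/-- two-elements -/
theorem two_part [Fintype F] (p : ℕ) [Fact p.Prime] [CharP F p] (hF : Odd (Fintype.card F)) (hp2 : p ≠ 2)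
    {x : ↥(chevG2.group F)} {k : ℕ} (hx : orderOf x = 2 ^ k) : 2 ^ k ∣ Fintype.card F ^ 2 - 1 := by
  classical
  rcases Nat.eq_zero_or_pos k with rfl | hk
  · exact one_dvd _
  have h2 : (2 : F) ≠ 0 := fun h => by
    have := (CharP.cast_eq_zero_iff F p 2).1 (by exact_mod_cast h)
    exact hp2 ((Nat.prime_dvd_prime_iff_eq Fact.out Nat.prime_two).1 this)
  have hy : orderOf (x ^ 2 ^ (k - 1)) = 2 := by
    rw [orderOf_pow_of_dvd (by positivity) (hx ▸ pow_dvd_pow 2 (Nat.sub_le k 1)), hx,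
      Nat.pow_div (Nat.sub_le k 1) two_pos, show k - (k - 1) = 1 by omega, pow_one]
  obtain ⟨g, hg, hgy⟩ := involution_conj hF hy
  set x' : GL chevG2.Idx F := g * x * g⁻¹ with hx'
  have hx'CC : x' ∈ CC F := by
    rw [mem_CC_iff h2]
    refine ⟨mul_mem (mul_mem hg x.2) (inv_mem hg), ?_⟩
    rw [← hgy, hx', SubmonoidClass.coe_pow]
    simp only [mul_assoc, inv_mul_cancel_left]
    rw [← mul_assoc ((x : GL chevG2.Idx F) ^ _), ← pow_succ, ← mul_assoc (x : GL chevG2.Idx F) ((x : GL chevG2.Idx F) ^ _),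
      ← pow_succ']
  have hsq : x' * x' ∈ MM F := by
    have h := relIndex_MM (F := F) h2
    rw [Subgroup.relIndex] at h
    have := (Subgroup.mul_mem_iff_of_index_two h (a := ⟨x', hx'CC⟩) (b := ⟨x', hx'CC⟩)).2 Iff.rfl
    exact this
  obtain ⟨⟨A, B⟩, hAB⟩ := hsq
  set K := (Fintype.card F ^ 2 - 1) / 2 * p
  have h1 : (x' * x') ^ K = 1 := by
    rw [← hAB, ← map_pow, Prod.pow_mk, sl2_exponent p hF, sl2_exponent p hF]
    exact map_one psi
  have h3 : x ^ (2 * K) = 1 := by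
    apply Subtype.ext
    rw [pow_mul, SubmonoidClass.coe_pow, SubmonoidClass.coe_pow, OneMemClass.coe_one]
    apply (MulAut.conj g).injective
    rw [map_pow, map_pow, MulAut.conj_apply, ← hx', sq, h1, map_one]
  have h4 : 2 ^ k ∣ 2 * K := hx ▸ orderOf_dvd_of_pow_eq_one h3
  have h5 : 2 * K = (Fintype.card F ^ 2 - 1) * p := by
    have : 2 ∣ Fintype.card F ^ 2 - 1 := by
      obtain ⟨j, hj⟩ := hF
      rw [hj, show (2 * j + 1) ^ 2 = 2 * (2 * j * (j + 1)) + 1 by ring, Nat.add_sub_cancel]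
      exact dvd_mul_right _ _
    rw [show 2 * K = 2 * ((Fintype.card F ^ 2 - 1) / 2) * p from (mul_assoc _ _ _).symm, Nat.mul_div_cancel' this]
  rw [h5] at h4
  exact (((Nat.coprime_primes Nat.prime_two Fact.out).2 (Ne.symm hp2)).pow_left k).dvd_of_dvd_mul_right h4

theorem cyclo_vals (q : ℕ) :
    (Polynomial.cyclotomic 3 ℤ).eval (q : ℤ) = ((q ^ 2 + q + 1 : ℕ) : ℤ) ∧
    (Polynomial.cyclotomic 6 ℤ).eval (q : ℤ) = ((q ^ 2 - q + 1 : ℕ) : ℤ) := by
  refine ⟨by rw [Polynomial.cyclotomic_three]; simp, ?_⟩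
  rw [Polynomial.cyclotomic_six]
  simp [Nat.cast_sub (Nat.le_self_pow two_ne_zero q)]

theorem phi_sq (q : ℕ) : ¬ 9 ∣ q ^ 2 + q + 1 ∧ ¬ 2 ∣ q ^ 2 + q + 1 ∧ ¬ 9 ∣ q ^ 2 - q + 1 ∧ ¬ 2 ∣ q ^ 2 - q + 1 := by
  have hq := Nat.le_self_pow two_ne_zero q
  refine ⟨fun h => ?_, fun h => ?_, fun h => ?_, fun h => ?_⟩ <;>
    have h' := (ZMod.natCast_eq_zero_iff _ _).2 h <;> push_cast [Nat.cast_sub hq] at h'
  · exact (show ∀ x : ZMod 9, x ^ 2 + x + 1 ≠ 0 by decide) _ h'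
  · exact (show ∀ x : ZMod 2, x ^ 2 + x + 1 ≠ 0 by decide) _ h'
  · exact (show ∀ x : ZMod 9, x ^ 2 - x + 1 ≠ 0 by decide) _ h'
  · exact (show ∀ x : ZMod 2, x ^ 2 - x + 1 ≠ 0 by decide) _ h'

theorem wsum_ok {r : ℕ} (hr : r.Prime) (hr2 : r ≠ 2) (hr3 : r ≠ 3) :
    ¬ r ∣ wsum hcG ([ia, ib] : List (Fin chevG2.rank)) 1 := by
  rw [show ([ia, ib] : List (Fin chevG2.rank)) = [⟨0, by decide⟩, ⟨1, by decide⟩] from rfl, wsum_G2 hcG,
    show polyEval [1, 1, 1, 1, 1, 1] 1 * polyEval [1, 1] 1 = 2 ^ 2 * 3 by decide +kernel]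
  intro h
  rcases hr.dvd_mul.1 h with h | h
  · exact hr2 ((Nat.prime_dvd_prime_iff_eq hr Nat.prime_two).1 (hr.dvd_of_dvd_pow h))
  · exact hr3 ((Nat.prime_dvd_prime_iff_eq hr Nat.prime_three).1 h)

theorem card_factor (q : ℕ) (hq : 1 ≤ q) :
    q ^ 6 * (q ^ 2 - 1) * (q ^ 6 - 1) = q ^ 6 * (q ^ 2 - 1) ^ 2 * ((q ^ 2 + q + 1) * (q ^ 2 - q + 1)) := by
  zify [Nat.one_le_pow 6 q hq, Nat.one_le_pow 2 q hq, Nat.le_self_pow two_ne_zero q]
  ring

/-- orders of semisimple elements -/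
theorem semisimple [Fintype F] (p : ℕ) [Fact p.Prime] [CharP F p] {g : ↥(chevG2.group F)}
    (hg : ¬ p ∣ orderOf g) :
    orderOf g ∣ Fintype.card F ^ 2 + Fintype.card F + 1 ∨ orderOf g ∣ Fintype.card F ^ 2 - Fintype.card F + 1 ∨
      orderOf g ∣ Fintype.card F ^ 2 - 1 := by
  classical
  set q := Fintype.card F with hq
  have hpp := (Fact.out : p.Prime)
  obtain ⟨n, -, hn⟩ := FiniteField.card F p
  rw [← hq] at hn
  obtain ⟨c3, c6⟩ := cyclo_vals q
  obtain ⟨n93, n23, n96, n26⟩ := phi_sq q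
  have hord : ∀ r, r ∣ orderOf g → orderOf (g ^ (orderOf g / r)) = r := fun r h => by
    rw [orderOf_pow_of_dvd (Nat.div_ne_zero_iff.2 ⟨fun h0 => (orderOf_pos g).ne' (by simpa [h0] using h),
      Nat.le_of_dvd (orderOf_pos g) h⟩) (Nat.div_dvd_of_dvd h), Nat.div_div_self h (orderOf_pos g).ne']
  by_cases h3 : ∃ r, r.Prime ∧ r ∣ orderOf g ∧ r ∣ q ^ 2 + q + 1 ∧ r ≠ 3
  · obtain ⟨r, hr, hrg, hrΦ, hr3⟩ := h3
    have := Fact.mk hr
    have hr2 : r ≠ 2 := fun h => n23 (h ▸ hrΦ)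
    refine Or.inl (elliptic_centralizer hcG hcommG rfl (d := 3) (by norm_num) (by decide) (by decide +kernel)
      cartInv_spec (J := [ia, ib]) (by decide) c3 ?_ hr2 hrΦ ?_ (wsum_ok hr hr2 hr3) _ (hord r hrg)
      (pow_mul_comm' g _))
    · intro l hl h h'
      obtain rfl := (Nat.prime_dvd_prime_iff_eq hl Nat.prime_three).1 h
      exact n93 h'
    · exact fun h => hr3 ((Nat.prime_dvd_prime_iff_eq hr Nat.prime_three).1 h)
  by_cases h6 : ∃ r, r.Prime ∧ r ∣ orderOf g ∧ r ∣ q ^ 2 - q + 1 ∧ r ≠ 3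
  · obtain ⟨r, hr, hrg, hrΦ, hr3⟩ := h6
    have := Fact.mk hr
    have hr2 : r ≠ 2 := fun h => n26 (h ▸ hrΦ)
    have h62 : ∀ l : ℕ, l.Prime → l ∣ 6 → l = 2 ∨ l = 3 := fun l hl h => by
      rcases hl.dvd_mul.1 (show l ∣ 2 * 3 from h) with h | h
      · exact Or.inl ((Nat.prime_dvd_prime_iff_eq hl Nat.prime_two).1 h)
      · exact Or.inr ((Nat.prime_dvd_prime_iff_eq hl Nat.prime_three).1 h)
    refine Or.inr (Or.inl (elliptic_centralizer hcG hcommG rfl (d := 6) (by norm_num) (by decide) (by decide +kernel)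
      cartInv_spec (J := [ia, ib]) (by decide) c6 ?_ hr2 hrΦ ?_ (wsum_ok hr hr2 hr3) _ (hord r hrg)
      (pow_mul_comm' g _)))
    · intro l hl h h'
      rcases h62 l hl h with rfl | rfl
      · exact n26 ((dvd_pow_self 2 two_ne_zero).trans h')
      · exact n96 h'
    · exact fun h => (h62 r hr h).elim hr2 hr3
  refine Or.inr (Or.inr ((Nat.dvd_iff_prime_pow_dvd_dvd _ _).2 fun r k hr hk => ?_))
  rcases Nat.eq_zero_or_pos k with rfl | hk0
  · exact one_dvd _
  have hrg : r ∣ orderOf g := (dvd_pow_self r hk0.ne').trans hk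
  have hrp : r ≠ p := fun h => hg (h ▸ hrg)
  set x := g ^ (orderOf g / r ^ k)
  have hx : orderOf x = r ^ k := hord _ hk
  by_cases hr2 : r = 2
  · subst hr2
    exact two_part p (by show Odd q; rw [hn]; exact (hpp.odd_of_ne_two (Ne.symm hrp)).pow) (Ne.symm hrp) hx
  have hrq : ¬ r ∣ q := fun h => hrp ((Nat.prime_dvd_prime_iff_eq hr hpp).1 (hr.dvd_of_dvd_pow (hn ▸ h)))
  have hr1 : r ∣ q ^ 2 - 1 := by
    by_cases hr3 : r = 3
    · subst hr3
      have h9 : q ^ 2 % 3 = 1 := by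
        rw [Nat.pow_mod]
        have : q % 3 = 1 ∨ q % 3 = 2 := by omega
        rcases this with e | e <;> rw [e]
      omega
    have hG : r ∣ q ^ 6 * (q ^ 2 - 1) ^ 2 * ((q ^ 2 + q + 1) * (q ^ 2 - q + 1)) := by
      rw [← card_factor q (Fintype.card_pos), ← card_group_G2 hq.symm]
      exact hrg.trans (orderOf_dvd_natCard g)
    rcases hr.dvd_mul.1 hG with h | h
    · rcases hr.dvd_mul.1 h with h | h
      · exact absurd (hr.dvd_of_dvd_pow h) hrq
      · exact hr.dvd_of_dvd_pow h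
    · rcases hr.dvd_mul.1 h with h | h
      · exact absurd ⟨r, hr, hrg, h, hr3⟩ h3
      · exact absurd ⟨r, hr, hrg, h, hr3⟩ h6
  obtain ⟨E, iE, iF, ι, σ, hfix, hσ, hE⟩ := ChevCent.exists_extension F (d := 2) two_pos
  have hQ0 : q ^ 2 - 1 ≠ 0 := by
    have : 1 < q ^ 2 := Nat.one_lt_pow two_ne_zero (hq ▸ Fintype.one_lt_card)
    omega
  set x' : ↥(chevG2.group E) := ⟨glMap chevG2 ι x, glMap_group hcG ι x.2⟩
  have hpow : x' ^ r ^ (q ^ 2 - 1).factorization r = 1 :=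
    sylow_exponent hr hr2 (hr.factorization_pos_of_dvd hQ0 hr1)
      (e := (q ^ 2 - 1) / r ^ (q ^ 2 - 1).factorization r)
      (by rw [hE, Nat.mul_div_cancel' (Nat.ordProj_dvd _ _)]) (Nat.not_dvd_ordCompl hr hQ0)
      ⟨k, Subtype.ext (by
        rw [SubmonoidClass.coe_pow, ← map_pow, ← SubmonoidClass.coe_pow, ← hx, pow_orderOf_eq_one, OneMemClass.coe_one,
          map_one, OneMemClass.coe_one])⟩
  have h := congrArg Subtype.val hpow
  rw [SubmonoidClass.coe_pow, ← map_pow, OneMemClass.coe_one, ← map_one (glMap chevG2 ι)] at h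
  have h' := glMap_injective ι h
  rw [← SubmonoidClass.coe_pow] at h'
  exact hx ▸ (orderOf_dvd_of_pow_eq_one (Subtype.ext h' : x ^ _ = 1)).trans (Nat.ordProj_dvd _ _)

end CfsgLib.G2Orders
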