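import Cfsg.Agent.Lib.G2Orders.Main

/-!
Element orders of G₂ in characteristic two.
-/

set_option autoImplicit false
set_option linter.unusedSectionVars false

namespace CfsgLib.G2Orders

open Cfsg.Lie CfsgLib.Chev CfsgLib.G2Invol CfsgLib.ChevTorusCent CfsgLib.ChevField
open Matrix

variable {F : Type*} [Field F]

/-- A unipotent element centralising a non-trivial torus element, characteristic two. -/
theorem fixed_exponent_two [CharP F 2] {χ : Fin chevG2.rank → Fˣ} (hχ : χ ≠ 1) {g : GL chevG2.Idx F}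
    (hg : g ∈ uGen chevG2 F (FixRoot chevG2 G2.tabs χ (fun r => chevG2.nroots / 2 ≤ r))) :
    g ^ 2 = 1 ∨ (χ ^ 3 = 1 ∧ g ^ 4 = 1) := by
  classical
  have : Fact (Nat.Prime 2) := ⟨Nat.prime_two⟩
  obtain ⟨⟨a6, b6⟩, ⟨a7, b7⟩, ⟨a8, b8⟩, ⟨a9, b9⟩, ⟨a10, b10⟩, ⟨a11, b11⟩⟩ := rv_vals
  set x := χ ia with hx
  set y := χ ib with hy
  set P := FixRoot chevG2 G2.tabs χ (fun r => chevG2.nroots / 2 ≤ r) with hP
  have hne : ¬ (x = 1 ∧ y = 1) := fun h => hχ (funext fun i => by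
    rcases fin_rank i with rfl | rfl
    · exact h.1
    · exact h.2)
  have hclosed : ClosedPos chevG2 G2.tabs P := by
    refine ⟨fun r _ h => h.1, fun r s v hr hs h1 h2 hv => ⟨(closedPos_pos hcG).2 r s v hr hs h1.1 h2.1 hv, ?_⟩⟩
    obtain ⟨_, i, j, -, -, e⟩ := hv
    rw [e, chi_add, chi_smul, chi_smul, h1.2, h2.2, _root_.one_zpow, _root_.one_zpow, one_mul]
  have c : ∀ r, r < chevG2.nroots → P r →
      (r = 6 ∧ y = 1) ∨ (r = 7 ∧ x = 1) ∨ (r = 8 ∧ x * y = 1) ∨ (r = 9 ∧ x ^ 2 * y = 1) ∨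
      (r = 10 ∧ x ^ 3 * y = 1) ∨ (r = 11 ∧ x ^ 3 * y ^ 2 = 1) := by
    intro r hr ⟨hpos, hfix⟩
    rw [chi_rank] at hfix
    rcases posRoots hr hpos with rfl | rfl | rfl | rfl | rfl | rfl
    · left; simpa [a6, b6, hy] using hfix
    · right; left; simpa [a7, b7, hx] using hfix
    · right; right; left; simpa [a8, b8, hx, hy] using hfix
    · right; right; right; left; simpa [a9, b9, hx, hy] using hfix
    · right; right; right; right; left; simpa [a10, b10, hx, hy] using hfix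
    · right; right; right; right; right; simpa [a11, b11, hx, hy] using hfix
  -- one fixed root only
  have single : ∀ r0, (∀ r, r < chevG2.nroots → P r → r = r0) → g ^ 2 = 1 := by
    intro r0 h
    have hb : ∀ r : Fin chevG2.nroots, chevG2.nroots / 2 ≤ r.val → 1 ≤ lin 1 1 (rv chevG2 G2.tabs r.val) := by
      decide +kernel
    by_cases hex : ∃ r, r < chevG2.nroots ∧ P r
    · obtain ⟨r, hr, hPr⟩ := hex
      have hd : 1 ≤ lin 1 1 (rv chevG2 G2.tabs r) := hb ⟨r, hr⟩ hPr.1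
      have e := pow_eq_one_of_grading hcG hcommG 2 (e := 1) hclosed (lin_add 1 1) (lin_smul 1 1)
        (d := lin 1 1 (rv chevG2 G2.tabs r)) (by linarith)
        (fun s hs hPs => by rw [h s hs hPs, h r hr hPr])
        (fun s hs hPs => by rw [h s hs hPs, ← h r hr hPr, pow_one]; push_cast; linarith) hg
      rwa [pow_one] at e
    · have hb : uGen chevG2 F P = ⊥ := by
        rw [eq_bot_iff, uGen_le_iff]
        exact fun r hr hPr _ => absurd ⟨r, hr, hPr⟩ hex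
      rw [hb, Subgroup.mem_bot] at hg
      rw [hg, one_pow]
  have sq1 : ∀ u : Fˣ, u ^ 2 = 1 → u = 1 := fun u h => Units.ext (by
    have h' : (u : F) ^ 2 = 1 := by rw [← Units.val_pow_eq_pow_val, h, Units.val_one]
    rw [Units.val_one]
    have h2 : (2 : F) = 0 := CharTwo.two_eq_zero
    have : ((u : F) - 1) ^ 2 = 0 := by linear_combination h' + (1 - (u : F)) * h2
    exact sub_eq_zero.1 ((pow_eq_zero_iff two_ne_zero).1 this))
  by_cases h1 : x = 1
  · refine Or.inl (single 7 fun r hr hPr => ?_)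
    rcases c r hr hPr with ⟨rfl, e⟩ | ⟨rfl, e⟩ | ⟨rfl, e⟩ | ⟨rfl, e⟩ | ⟨rfl, e⟩ | ⟨rfl, e⟩
    · exact absurd ⟨h1, e⟩ hne
    · rfl
    · rw [h1, one_mul] at e; exact absurd ⟨h1, e⟩ hne
    · rw [h1, one_pow, one_mul] at e; exact absurd ⟨h1, e⟩ hne
    · rw [h1, one_pow, one_mul] at e; exact absurd ⟨h1, e⟩ hne
    · rw [h1, one_pow, one_mul] at e; exact absurd ⟨h1, sq1 y e⟩ hne
  by_cases h8 : x * y = 1
  · refine Or.inl (single 8 fun r hr hPr => ?_)
    rcases c r hr hPr with ⟨rfl, e⟩ | ⟨rfl, e⟩ | ⟨rfl, e⟩ | ⟨rfl, e⟩ | ⟨rfl, e⟩ | ⟨rfl, e⟩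
    · rw [e, mul_one] at h8; exact absurd h8 h1
    · exact absurd e h1
    · rfl
    · rw [sq, mul_assoc, h8, mul_one] at e; exact absurd e h1
    · rw [pow_succ, mul_assoc, h8, mul_one] at e; exact absurd (sq1 x e) h1
    · rw [pow_succ, sq y, ← mul_assoc, mul_assoc (x ^ 2), h8, mul_one, sq, mul_assoc, h8, mul_one] at e
      exact absurd e h1
  by_cases h9 : x ^ 2 * y = 1
  · refine Or.inl (single 9 fun r hr hPr => ?_)
    rcases c r hr hPr with ⟨rfl, e⟩ | ⟨rfl, e⟩ | ⟨rfl, e⟩ | ⟨rfl, e⟩ | ⟨rfl, e⟩ | ⟨rfl, e⟩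
    · rw [e, mul_one] at h9; exact absurd (sq1 x h9) h1
    · exact absurd e h1
    · exact absurd e h8
    · rfl
    · rw [pow_succ', mul_assoc, h9, mul_one] at e; exact absurd e h1
    · rw [pow_succ', sq y, mul_assoc, ← mul_assoc (x ^ 2), h9, one_mul] at e; exact absurd e h8
  -- long roots only
  have long : ∀ r, r < chevG2.nroots → P r →
      (r = 6 ∧ y = 1) ∨ (r = 10 ∧ x ^ 3 * y = 1) ∨ (r = 11 ∧ x ^ 3 * y ^ 2 = 1) := by
    intro r hr hPr
    rcases c r hr hPr with h | ⟨-, e⟩ | ⟨-, e⟩ | ⟨-, e⟩ | h | h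
    · exact Or.inl h
    · exact absurd e h1
    · exact absurd e h8
    · exact absurd e h9
    · exact Or.inr (Or.inl h)
    · exact Or.inr (Or.inr h)
  by_cases h3 : x ^ 3 = 1 ∧ y = 1
  · refine Or.inr ⟨funext fun i => ?_, ?_⟩
    · rcases fin_rank i with rfl | rfl
      · exact h3.1
      · show y ^ 3 = 1
        rw [h3.2, one_pow]
    · have e := pow_eq_one_of_grading hcG hcommG 2 (e := 2) hclosed (lin_add 0 1) (lin_smul 0 1) (d := 1) zero_le_one
        (fun r hr hPr => by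
          rcases long r hr hPr with ⟨rfl, -⟩ | ⟨rfl, -⟩ | ⟨rfl, -⟩ <;> simp only [lin, b6, b10, b11] <;> norm_num)
        (fun r hr hPr => by
          rcases long r hr hPr with ⟨rfl, -⟩ | ⟨rfl, -⟩ | ⟨rfl, -⟩ <;> simp only [lin, b6, b10, b11] <;> norm_num) hg
      exact e
  left
  by_cases hy1 : y = 1
  · refine single 6 fun r hr hPr => ?_
    rcases long r hr hPr with ⟨rfl, -⟩ | ⟨rfl, e⟩ | ⟨rfl, e⟩
    · rfl
    · rw [hy1, mul_one] at e; exact absurd ⟨e, hy1⟩ h3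
    · rw [hy1, one_pow, mul_one] at e; exact absurd ⟨e, hy1⟩ h3
  by_cases h10 : x ^ 3 * y = 1
  · refine single 10 fun r hr hPr => ?_
    rcases long r hr hPr with ⟨rfl, e⟩ | ⟨rfl, -⟩ | ⟨rfl, e⟩
    · exact absurd e hy1
    · rfl
    · rw [sq, ← mul_assoc, h10, one_mul] at e; exact absurd e hy1
  refine single 11 fun r hr hPr => ?_
  rcases long r hr hPr with ⟨rfl, e⟩ | ⟨rfl, e⟩ | ⟨rfl, -⟩
  · exact absurd e hy1
  · exact absurd e h10
  · rfl

/-- The element orders in characteristic two. -/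
theorem orders_bound_two [Fintype F] [CharP F 2] (g : ↥(chevG2.group F)) :
    orderOf g ∣ 8 ∨ orderOf g ∣ 12 ∨ orderOf g ∣ 2 * (Fintype.card F + 1) ∨
      orderOf g ∣ 2 * (Fintype.card F - 1) ∨ orderOf g ∣ Fintype.card F ^ 2 - 1 ∨
      orderOf g ∣ Fintype.card F ^ 2 + Fintype.card F + 1 ∨ orderOf g ∣ Fintype.card F ^ 2 - Fintype.card F + 1 := by
  classical
  have : Fact (Nat.Prime 2) := ⟨Nat.prime_two⟩
  by_cases hpn : 2 ∣ orderOf g
  swap
  · rcases semisimple 2 hpn with h | h | h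
    · exact Or.inr (Or.inr (Or.inr (Or.inr (Or.inr (Or.inl h)))))
    · exact Or.inr (Or.inr (Or.inr (Or.inr (Or.inr (Or.inr h)))))
    · exact Or.inr (Or.inr (Or.inr (Or.inr (Or.inl h))))
  have h0 : orderOf g ≠ 0 := (orderOf_pos g).ne'
  set e := (orderOf g).factorization 2
  set m := orderOf g / 2 ^ e
  have hdecomp : 2 ^ e * m = orderOf g := Nat.mul_div_cancel' (Nat.ordProj_dvd _ _)
  have hm : ¬ 2 ∣ m := Nat.not_dvd_ordCompl Nat.prime_two h0
  have he : 0 < e := Nat.prime_two.factorization_pos_of_dvd h0 hpn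
  have hm0 : 0 < m := Nat.pos_of_mul_pos_left (hdecomp ▸ orderOf_pos g)
  set u := g ^ m with hu
  set s := g ^ 2 ^ e with hs
  have hou : orderOf u = 2 ^ e := by
    rw [hu, orderOf_pow_of_dvd hm0.ne' ⟨2 ^ e, by rw [mul_comm, hdecomp]⟩, ← hdecomp,
      Nat.mul_div_cancel _ hm0]
  have hos : orderOf s = m := by
    rw [hs, orderOf_pow_of_dvd (pow_ne_zero _ two_ne_zero) ⟨m, hdecomp.symm⟩, ← hdecomp,
      Nat.mul_div_cancel_left _ (pow_pos two_pos _)]
  by_cases hm1 : m = 1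
  · exact Or.inl (orderOf_dvd_of_pow_eq_one
      (unipotent_exponent 2 (e := 3) (by norm_num) ⟨e, by rw [← hdecomp, hm1, mul_one]⟩))
  have hs1 : (s : GL chevG2.Idx F) ≠ 1 := fun h => hm1 (by
    rw [← hos, orderOf_eq_one_iff]; exact Subtype.ext h)
  have hu1 : (u : GL chevG2.Idx F) ≠ 1 := fun h => by
    have h1 : orderOf u = 1 := orderOf_eq_one_iff.2 (Subtype.ext h)
    rw [hou, Nat.pow_eq_one] at h1
    omega
  obtain ⟨E, iE, iF, χ, u3, hE, hχ, hu3, hord, hmχ, hdvd⟩ := mixed_core 2 s.2 u.2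
    (by rw [← Subgroup.coe_mul, ← Subgroup.coe_mul, hu, hs, ← pow_add, ← pow_add, add_comm]) hs1 hu1
    (by rw [Subgroup.orderOf_coe, hos]; exact hm) ⟨e, by rw [Subgroup.orderOf_coe, hou]⟩
  rw [Subgroup.orderOf_coe, hou] at hord
  rcases fixed_exponent_two hχ hu3 with h | ⟨h3, h4⟩
  · have he1 : 2 ^ e ∣ 2 := hord ▸ orderOf_dvd_of_pow_eq_one h
    rw [Subgroup.orderOf_coe, hos] at hdvd
    rcases hdvd with h | h
    · exact Or.inr (Or.inr (Or.inr (Or.inl (hdecomp ▸ Nat.mul_dvd_mul he1 h))))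
    · exact Or.inr (Or.inr (Or.inl (hdecomp ▸ Nat.mul_dvd_mul he1 h)))
  · have he1 : 2 ^ e ∣ 4 := hord ▸ orderOf_dvd_of_pow_eq_one h4
    have hm3 := hmχ 3 h3
    rw [Subgroup.orderOf_coe, hos] at hm3
    exact Or.inr (Or.inl (hdecomp ▸ Nat.mul_dvd_mul he1 hm3))

/-- a matrix over `ZMod 2` from the codes of its columns -/
def bitMat (L : List ℕ) : Matrix chevG2.Idx chevG2.Idx (ZMod 2) :=
  Matrix.of fun x y => if (L.getD (cd chevG2 y) 0).testBit (cd chevG2 x) then 1 else 0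

/-- the root element over `ZMod 2` -/
noncomputable def xTwo (r : ℕ) : Matrix chevG2.Idx chevG2.Idx (ZMod 2) := (Int.castRingHom (ZMod 2)).mapMatrix (xInt r)

def cA : List ℕ := [1024, 2048, 512, 1152, 2304, 32, 64, 1032, 2064, 8708, 1161, 2322, 12800, 8192]
def cM : List ℕ := [1056, 6145, 520, 1184, 6405, 32, 66, 1064, 6161, 8717, 1193, 6423, 12809, 8193]
def cM2 : List ℕ := [1161, 12094, 9901, 161, 13607, 32, 6211, 41, 13883, 132, 33, 13347, 12421, 9249]
def cM3 : List ℕ := [1, 47, 37, 40, 4281, 32, 14205, 160, 13576, 1568, 1024, 2720, 4104, 8360]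
def cM4 : List ℕ := [1056, 6825, 1544, 1152, 12164, 32, 14162, 1032, 2576, 9860, 1193, 16146, 13993, 8361]
def cM6 : List ℕ := [1, 3, 4, 8, 24, 32, 8288, 128, 384, 512, 1024, 3072, 4128, 8192]

theorem word_mul : ∀ z : chevG2.Idx × chevG2.Idx,
    (xTwo 2 * xTwo 9) z.1 z.2 = bitMat cA z.1 z.2 ∧ (xTwo 0 * bitMat cA) z.1 z.2 = bitMat cM z.1 z.2 := by
  decide +kernel

theorem pow_mul_table : ∀ z : chevG2.Idx × chevG2.Idx,
    (bitMat cM * bitMat cM) z.1 z.2 = bitMat cM2 z.1 z.2 ∧ (bitMat cM2 * bitMat cM) z.1 z.2 = bitMat cM3 z.1 z.2 ∧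
    (bitMat cM2 * bitMat cM2) z.1 z.2 = bitMat cM4 z.1 z.2 ∧ (bitMat cM3 * bitMat cM3) z.1 z.2 = bitMat cM6 z.1 z.2 ∧
    (bitMat cM6 * bitMat cM6) z.1 z.2 = (1 : Matrix chevG2.Idx chevG2.Idx (ZMod 2)) z.1 z.2 := by
  decide +kernel

/-- an element of order twelve -/
theorem order_twelve [Fintype F] [CharP F 2] : ∃ g : ↥(chevG2.group F), orderOf g = 12 := by
  classical
  set f : ZMod 2 →+* F := ZMod.castHom (dvd_refl 2) F
  set u : GL chevG2.Idx F := elX chevG2 F 0 1 * (elX chevG2 F 2 1 * elX chevG2 F 9 1) with hu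
  have hx : ∀ {r : ℕ}, r < chevG2.nroots →
      ((elX chevG2 F r 1 : GL chevG2.Idx F) : Matrix chevG2.Idx chevG2.Idx F) = f.mapMatrix (xTwo r) := by
    intro r hr
    rw [coe_elX_one hr, xTwo]
    ext x y
    simp [f]
  have eA : xTwo 2 * xTwo 9 = bitMat cA := by ext x y; exact (word_mul (x, y)).1
  have eM : xTwo 0 * bitMat cA = bitMat cM := by ext x y; exact (word_mul (x, y)).2
  have e2 : bitMat cM * bitMat cM = bitMat cM2 := by ext x y; exact (pow_mul_table (x, y)).1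
  have e3 : bitMat cM2 * bitMat cM = bitMat cM3 := by ext x y; exact (pow_mul_table (x, y)).2.1
  have e4 : bitMat cM2 * bitMat cM2 = bitMat cM4 := by
    ext x y; exact (pow_mul_table (x, y)).2.2.1
  have e6 : bitMat cM3 * bitMat cM3 = bitMat cM6 := by
    ext x y; exact (pow_mul_table (x, y)).2.2.2.1
  have e12 : bitMat cM6 * bitMat cM6 = 1 := by
    ext x y; exact (pow_mul_table (x, y)).2.2.2.2
  have p4 : bitMat cM ^ 4 = bitMat cM4 := by rw [show 4 = 2 * 2 from rfl, pow_mul, sq, sq, e2, e4]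
  have p6 : bitMat cM ^ 6 = bitMat cM6 := by rw [show 6 = 3 + 3 from rfl, pow_add, pow_succ, sq, e2, e3, e6]
  have hval : ∀ n : ℕ, ((u ^ n : GL chevG2.Idx F) : Matrix chevG2.Idx chevG2.Idx F) = f.mapMatrix (bitMat cM ^ n) := by
    intro n
    rw [Units.val_pow_eq_pow_val, hu, Units.val_mul, Units.val_mul, hx (by decide), hx (by decide), hx (by decide),
      ← map_mul, ← map_mul, eA, eM, map_pow]
  have hdet : ∀ n (x y : chevG2.Idx), (bitMat cM ^ n) x y ≠ (1 : Matrix chevG2.Idx chevG2.Idx (ZMod 2)) x y →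
      u ^ n ≠ 1 := by
    intro n x y hne h
    apply hne
    apply f.injective
    have h' := congrFun (congrFun ((hval n).symm.trans (congrArg Units.val h)) x) y
    refine h'.trans ?_
    simp [Matrix.one_apply, apply_ite f]
  have h4 : u ^ 4 ≠ 1 := hdet 4 (Sum.inr ⟨0, by decide⟩) (Sum.inr ⟨0, by decide⟩) (by rw [p4]; decide +kernel)
  have h6 : u ^ 6 ≠ 1 := hdet 6 (Sum.inr ⟨0, by decide⟩) (Sum.inr ⟨1, by decide⟩) (by rw [p6]; decide +kernel)
  have h12 : u ^ 12 = 1 := Units.ext (by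
    rw [hval, show 12 = 6 * 2 from rfl, pow_mul, p6, sq, e12, map_one, Units.val_one])
  have hmem : u ∈ chevG2.group F := mul_mem (elX_mem_group hcG (by decide) 1)
    (mul_mem (elX_mem_group hcG (by decide) 1) (elX_mem_group hcG (by decide) 1))
  refine ⟨⟨u, hmem⟩, ?_⟩
  rw [← Subgroup.orderOf_coe]
  show orderOf u = 12
  have hd := orderOf_dvd_of_pow_eq_one h12
  have hd4 : ¬ orderOf u ∣ 4 := fun h => h4 (orderOf_dvd_iff_pow_eq_one.1 h)
  have hd6 : ¬ orderOf u ∣ 6 := fun h => h6 (orderOf_dvd_iff_pow_eq_one.1 h)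
  have := Nat.le_of_dvd (by norm_num) hd
  interval_cases orderOf u <;> first | rfl | omega

/-- an element of order eight -/
theorem order_eight [Fintype F] [CharP F 2] : ∃ g : ↥(chevG2.group F), orderOf g = 8 := by
  classical
  have : Fact (Nat.Prime 2) := ⟨Nat.prime_two⟩
  set u : GL chevG2.Idx F := elX chevG2 F 7 1 * elX chevG2 F 6 1 with hu
  have : Nonempty chevG2.Idx := ⟨Sum.inl ia⟩
  have hne : u ^ 2 ^ 2 ≠ 1 := by
    intro h
    have h1 := sub_pow_char_pow_of_commute 2 2 (Commute.one_right (u : Matrix chevG2.Idx chevG2.Idx F))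
    rw [one_pow, ← Units.val_pow_eq_pow_val, h, Units.val_one, sub_self] at h1
    have h2 := iterate_step (F := F) 2 (V := nilVec) (k := 2 ^ 2) fun i hi => nilVec_spec ⟨i, by omega⟩
    rw [← hu, h1, zero_mulVec] at h2
    have h3 := congrFun h2 (Sum.inr ⟨11, by decide⟩)
    have h4 : (2 : ℤ) ∣ -25 := (CharP.intCast_eq_zero_iff F 2 (-25)).1 h3.symm
    omega
  have hU : u ∈ uGen chevG2 F (fun r => chevG2.nroots / 2 ≤ r) :=
    mul_mem (elX_mem_uGen (by decide) (P := fun r => chevG2.nroots / 2 ≤ r) (show 12 / 2 ≤ 7 by decide) 1)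
      (elX_mem_uGen (by decide) (P := fun r => chevG2.nroots / 2 ≤ r) (show 12 / 2 ≤ 6 by decide) 1)
  have hmem : u ∈ chevG2.group F := mul_mem (elX_mem_group hcG (by decide) 1) (elX_mem_group hcG (by decide) 1)
  refine ⟨⟨u, hmem⟩, ?_⟩
  rw [← Subgroup.orderOf_coe]
  exact orderOf_eq_prime_pow (n := 2) hne (pos_exponent 2 (by norm_num) hU)

end CfsgLib.G2Orders
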